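import Cfsg.Agent.H867.RC.Spor
import Cfsg.Agent.H345.RG.Fpr
import Cfsg.Agent.H147.Gen.Base

/-!
# Frame for the rows of S3509 with outer automorphisms (helper257)

`Env G Ω N`, `e : N ≃* S`; `inc e : S →* G` the embedding, `act e : G →* MulAut S` the action.

* `fpr_CA` : bound for the fixed point ratio from `CA k (act e x)`, `fpr_CG` from `CG k s`;
* `pair_cov` : `x` with `C_S(x)` a perfect cover of a simple group: rule for a pair `{x, y}`.
-/

set_option autoImplicit false
open Cfsg

namespace Cfsg.Agent.H257.RG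

open MulAction Subgroup Cfsg.Agent.H106.RC Cfsg.Agent.H345.RG Cfsg.Agent.H867.RC Cfsg.Agent.H147.Gen

section frame

variable {G Ω S : Type*} [Group G] [Group S] [MulAction G Ω] {N : Subgroup G}

/-- the embedding -/
def inc (e : N ≃* S) : S →* G := N.subtype.comp e.symm.toMonoidHom

theorem inc_mem (e : N ≃* S) (s : S) : inc e s ∈ N := (e.symm s).2

theorem inc_inj (e : N ≃* S) : Function.Injective (inc e) :=
  N.subtype_injective.comp e.symm.injective

theorem exists_inc (e : N ≃* S) {n : G} (hn : n ∈ N) : ∃ s, inc e s = n :=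
  ⟨e ⟨n, hn⟩, by simp [inc]⟩

/-- the action -/
def act [N.Normal] (e : N ≃* S) : G →* MulAut S := (MulAut.congr e).toMonoidHom.comp MulAut.conjNormal

theorem inc_act [N.Normal] (e : N ≃* S) (g : G) (s : S) : inc e (act e g s) = g * inc e s * g⁻¹ := by
  have h1 : act e g s = e (MulAut.conjNormal g (e.symm s)) := rfl
  rw [h1]
  simp [inc, MulAut.conjNormal_apply]

theorem act_inc [N.Normal] (e : N ≃* S) (s : S) : act e (inc e s) = MulAut.conj s := by
  ext t
  apply inc_inj e
  rw [inc_act, MulAut.conj_apply, map_mul, map_mul, map_inv]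

theorem act_inj [N.Normal] (e : N ≃* S) (hc : centralizer (N : Set G) = ⊥) : Function.Injective (act e) := by
  rw [injective_iff_map_eq_one]
  intro g hg
  have h1 : g ∈ centralizer (N : Set G) := by
    rw [mem_centralizer_iff]
    intro n hn
    obtain ⟨s, rfl⟩ := exists_inc e hn
    have h2 := inc_act e g s
    rw [hg, MulAut.one_apply] at h2
    calc inc e s * g = g * inc e s * g⁻¹ * g := by rw [← h2]
      _ = g * inc e s := by group
  rw [hc, mem_bot] at h1
  exact h1

theorem mem_iff [N.Normal] (e : N ≃* S) (hc : centralizer (N : Set G) = ⊥) (g : G) :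
    g ∈ N ↔ act e g ∈ (MulAut.conj : S →* MulAut S).range := by
  constructor
  · intro h
    obtain ⟨s, rfl⟩ := exists_inc e h
    exact ⟨s, (act_inc e s).symm⟩
  · rintro ⟨s, hs⟩
    rw [← act_inc e s] at hs
    rw [← act_inj e hc hs]
    exact inc_mem e s

/-- `k` conjugates generate a group containing `N` -/
theorem exists_Gen [N.Normal] (e : N ≃* S) (hc : centralizer (N : Set G) = ⊥) {x : G} {k : ℕ} (h : CA k (act e x)) :
    ∃ L : List G, L.length = k ∧ N ≤ Gen x L := by
  obtain ⟨f, hf⟩ := h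
  refine ⟨List.ofFn fun i => inc e (f i), by simp, ?_⟩
  intro n hn
  have h1 : act e n ∈ closure (Set.range fun i => MulAut.conj (f i) * act e x * (MulAut.conj (f i))⁻¹) := by
    rw [hf]
    exact mem_sup_right ((mem_iff e hc n).1 hn)
  have h2 : (Gen x (List.ofFn fun i => inc e (f i))).map (act e) =
      closure (Set.range fun i => MulAut.conj (f i) * act e x * (MulAut.conj (f i))⁻¹) := by
    rw [Gen, MonoidHom.map_closure]
    congr 1
    ext z
    constructor
    · rintro ⟨_, ⟨c, hc, rfl⟩, rfl⟩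
      rw [List.mem_ofFn] at hc
      obtain ⟨i, rfl⟩ := hc
      exact ⟨i, by simp only [map_mul, map_inv, act_inc]⟩
    · rintro ⟨i, rfl⟩
      exact ⟨_, ⟨inc e (f i), by rw [List.mem_ofFn]; exact ⟨i, rfl⟩, rfl⟩, by simp only [map_mul, map_inv, act_inc]⟩
  rw [← h2] at h1
  obtain ⟨z, hz, hzn⟩ := h1
  rwa [← act_inj e hc hzn]

/-- **fixed point ratio from `CA`** -/
theorem fpr_CA [Finite Ω] [Nonempty Ω] [Finite G] (hE : Env G Ω N) (e : N ≃* S) {m : ℕ} (hm : 0 < m) (hB : Big Ω N m)
    {x : G} {p : ℕ} (hp : p.Prime) (hx : x ^ p = 1) (hx1 : x ≠ 1) {k : ℕ} (hk : 0 < k)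
    (h : letI := hE.norm; CA k (act e x)) : fpr Ω x ≤ 1 - p * (1 - 1 / m) / (k * (p - 1)) := by
  have := hE.norm
  obtain ⟨L, hL, hN⟩ := exists_Gen e hE.cent h
  have h1 := Cfsg.Agent.H345.RG.F2 (N := N) hm hB hp hx hx1 L (by
    rintro rfl
    rw [List.length_nil] at hL
    omega) hN
  rwa [hL] at h1

theorem fpr_CG [Finite Ω] [Nonempty Ω] [Finite G] (hE : Env G Ω N) (e : N ≃* S) {m : ℕ} (hm : 0 < m) (hB : Big Ω N m)
    {s : S} {p : ℕ} (hp : p.Prime) (hs : s ^ p = 1) (hs1 : s ≠ 1) {k : ℕ} (hk : 0 < k)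
    (h : CG k s) : fpr Ω (inc e s) ≤ 1 - p * (1 - 1 / m) / (k * (p - 1)) := by
  have := hE.norm
  refine fpr_CA hE e hm hB hp (by rw [← map_pow, hs, map_one]) (fun h1 => hs1 (inc_inj e (by rw [h1, map_one]))) hk ?_
  rw [act_inc]
  exact h.ca

/-- the centralizer in `N` -/
theorem card_inf_inc (e : N ≃* S) (s : S) :
    Nat.card ↥(N ⊓ centralizer ({inc e s} : Set G)) = Nat.card ↥(centralizer ({s} : Set S)) := by
  refine (Nat.card_congr (Equiv.ofBijective (fun z : centralizer ({s} : Set S) =>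
    (⟨inc e z, mem_inf.2 ⟨inc_mem e z, ?_⟩⟩ : ↥(N ⊓ centralizer ({inc e s} : Set G)))) ⟨?_, ?_⟩)).symm
  · rw [mem_centralizer_singleton_iff, ← map_mul, ← map_mul, mem_centralizer_singleton_iff.1 z.2]
  · intro a b hab
    have h1 : inc e (a : S) = inc e (b : S) :=
      congrArg (fun z : ↥(N ⊓ centralizer ({inc e s} : Set G)) => (z : G)) hab
    exact Subtype.ext (inc_inj e h1)
  · rintro ⟨z, hz⟩
    obtain ⟨h1, h2⟩ := mem_inf.1 hz
    obtain ⟨y, rfl⟩ := exists_inc e h1
    refine ⟨⟨y, ?_⟩, rfl⟩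
    rw [mem_centralizer_singleton_iff] at h2 ⊢
    exact inc_inj e (by rw [map_mul, map_mul]; exact h2)

/-- **fixed point ratio from the centralizer** -/
theorem fpr_cent [Finite Ω] [Finite G] (hE : Env G Ω N) (e : N ≃* S) {m : ℕ} (hm : 0 < m) (hB : Big Ω N m) {s : S} {c : ℕ}
    (hc : Nat.card ↥(centralizer ({s} : Set S)) ≤ c) : fpr Ω (inc e s) ≤ c / m := by
  refine (Cfsg.Agent.H345.RG.F1 hm hB hE.norm _).trans ?_
  rw [card_inf_inc]
  have hm' : (0 : ℚ) < m := by exact_mod_cast hm
  exact div_le_div_of_nonneg_right (by exact_mod_cast hc) hm'.le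

/-- orbits are big if the proper subgroups have big index -/
theorem big_of_min [Finite G] (hE : Env G Ω N) (e : N ≃* S) {m : ℕ} (hm : ∀ H : Subgroup S, H ≠ ⊤ → m ≤ H.index) :
    Big Ω N m := by
  intro ω
  refine le_orbit hE (fun H hH => ?_) ω
  have h1 : (H.map e.toMonoidHom).index = H.index := index_map_of_bijective e.bijective H
  rw [← h1]
  refine hm _ fun h => hH ?_
  rw [eq_top_iff]
  intro n _
  have h2 : e n ∈ H.map e.toMonoidHom := by rw [h]; exact mem_top _
  obtain ⟨n', hn', h3⟩ := h2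
  rwa [← e.injective h3]

end frame

section pair

variable {G Ω S : Type*} [Group G] [Group S] [MulAction G Ω] {N : Subgroup G}

open scoped commutatorElement

/-- **the pair rule**: `C_S(s)` is perfect, its proper normal subgroups are in `⟨s⟩`; `y` commutes with `s`: then `s` is in
the normal closure of `y` under `C(s)`, or `y` centralizes `C_S(s)` -/
theorem mem_or_cent [N.Normal] (e : N ≃* S) {s : S} (hperf : commutator ↥(centralizer ({s} : Set S)) = ⊤)
    (hn : ∀ K : Subgroup ↥(centralizer ({s} : Set S)), K.Normal → (∀ k ∈ K, (k : S) ∈ zpowers s) ∨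
      ∀ c : ↥(centralizer ({s} : Set S)), ∃ k ∈ K, (c * k : S) ∈ zpowers s)
    {y : G} (hy : y * inc e s = inc e s * y) :
    inc e s ∈ closure {z | ∃ c : G, c * inc e s = inc e s * c ∧ z = c * y * c⁻¹} ∨
      ∀ c : S, c * s = s * c → inc e c * y = y * inc e c := by
  set x : G := inc e s with hx
  set K : Subgroup G := closure {z | ∃ c : G, c * x = x * c ∧ z = c * y * c⁻¹} with hK
  set C : Subgroup S := centralizer ({s} : Set S) with hC
  have hCm : ∀ c : S, c ∈ C ↔ c * s = s * c := fun c => mem_centralizer_singleton_iff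
  have hinc : ∀ c ∈ C, inc e c * x = x * inc e c := by
    intro c hc
    rw [hx, ← map_mul, (hCm c).1 hc, map_mul]
  -- `K` is normalised by `C_G(x)`
  have hKc : ∀ c : G, c * x = x * c → ∀ k ∈ K, c * k * c⁻¹ ∈ K := by
    intro c hc k hk
    have h1 : K.map (MulAut.conj c).toMonoidHom ≤ K := by
      rw [hK, MonoidHom.map_closure, closure_le]
      rintro _ ⟨_, ⟨d, hd, rfl⟩, rfl⟩
      refine subset_closure ⟨c * d, ?_, ?_⟩
      · rw [mul_assoc, hd, ← mul_assoc, hc, mul_assoc]
      · show c * (d * y * d⁻¹) * c⁻¹ = _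
        group
    exact h1 (mem_map_of_mem _ hk)
  have hyK : y ∈ K := subset_closure ⟨1, by simp, by simp⟩
  -- commutators
  have hcom : ∀ c ∈ C, inc e c * y * (inc e c)⁻¹ * y⁻¹ ∈ K := fun c hc =>
    mul_mem (subset_closure ⟨inc e c, hinc c hc, rfl⟩) (inv_mem hyK)
  -- `D = K ∩ C`
  let D : Subgroup C := (K.comap (inc e)).subgroupOf C
  have hD : ∀ c : C, c ∈ D ↔ inc e (c : S) ∈ K := fun c => Iff.rfl
  have hDn : D.Normal := by
    constructor
    intro d hd c
    rw [hD] at hd ⊢
    rw [Subgroup.coe_mul, Subgroup.coe_mul, Subgroup.coe_inv, map_mul, map_mul, map_inv]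
    exact hKc _ (hinc _ c.2) _ hd
  -- `c y c⁻¹ y⁻¹` as an element of `S`
  have hyinv : y⁻¹ * x = x * y⁻¹ := by
    rw [inv_mul_eq_iff_eq_mul, ← mul_assoc, hy, mul_inv_cancel_right]
  have hθ : ∀ c ∈ C, (act e y c) ∈ C := by
    intro c hc
    rw [hCm]
    apply inc_inj e
    rw [map_mul, map_mul, inc_act, ← hx]
    calc y * inc e c * y⁻¹ * x = y * inc e c * (y⁻¹ * x) := by group
      _ = y * (inc e c * x) * y⁻¹ := by rw [hyinv]; group
      _ = (y * x) * inc e c * y⁻¹ := by rw [hinc c hc]; group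
      _ = x * (y * inc e c * y⁻¹) := by rw [hy]; group
  have hcomD : ∀ c : C, c * (⟨act e y c, hθ c c.2⟩ : C)⁻¹ ∈ D := by
    intro c
    rw [hD, Subgroup.coe_mul, Subgroup.coe_inv, map_mul, map_inv, inc_act]
    have h1 := hcom c c.2
    have h2 : inc e (c : S) * (y * inc e c * y⁻¹)⁻¹ = inc e c * y * (inc e c)⁻¹ * y⁻¹ := by group
    rwa [h2]
  rcases hn D hDn with h | h
  · -- all commutators are in `⟨s⟩`
    right
    have hcen : ∀ z ∈ zpowers s, ∀ c ∈ C, z * c = c * z := by
      intro z hz c hc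
      obtain ⟨i, rfl⟩ := mem_zpowers_iff.1 hz
      exact ((show Commute c s from (hCm c).1 hc).zpow_right i).eq.symm
    -- the homomorphism `c ↦ c (y c y⁻¹)⁻¹`
    let φ : C →* S :=
      { toFun := fun c => (c : S) * (act e y c)⁻¹
        map_one' := by simp
        map_mul' := by
          intro a b
          have h1 : (a : S) * (act e y a)⁻¹ ∈ zpowers s := h _ (hcomD a)
          have h2 : (b : S) * (act e y b)⁻¹ ∈ zpowers s := h _ (hcomD b)
          rw [Subgroup.coe_mul, map_mul, mul_inv_rev]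
          have h3 := hcen _ h2 _ (inv_mem (hθ a a.2))
          calc (a : S) * b * ((act e y b)⁻¹ * (act e y a)⁻¹) = a * ((b * (act e y b)⁻¹) * (act e y a)⁻¹) := by group
            _ = a * ((act e y a)⁻¹ * (b * (act e y b)⁻¹)) := by rw [h3]
            _ = _ := by group }
    have hφ : ∀ c : C, φ c = 1 := by
      intro c
      have h1 : commutator C ≤ φ.ker := by
        rw [commutator_def, commutator_le]
        intro a _ b _
        rw [MonoidHom.mem_ker, map_commutatorElement, commutatorElement_eq_one_iff_mul_comm]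
        have h2 : φ a ∈ zpowers s := h _ (hcomD a)
        have h3 : φ b ∈ zpowers s := h _ (hcomD b)
        obtain ⟨i, hi⟩ := mem_zpowers_iff.1 h2
        obtain ⟨j, hj⟩ := mem_zpowers_iff.1 h3
        rw [← hi, ← hj, ← zpow_add, ← zpow_add, add_comm]
      rw [hperf] at h1
      exact h1 (mem_top c)
    intro c hc
    have h1 := hφ ⟨c, (hCm c).2 hc⟩
    have h2 : c * (act e y c)⁻¹ = 1 := h1
    rw [mul_inv_eq_one] at h2
    have h3 := inc_act e y c
    rw [← h2] at h3
    calc inc e c * y = y * inc e c * y⁻¹ * y := by rw [← h3]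
      _ = y * inc e c := by group
  · -- `D ⟨s⟩ = C`
    left
    have hle : commutator C ≤ D := by
      rw [commutator_def, commutator_le]
      intro a _ b _
      obtain ⟨k, hk, hak⟩ := h a
      obtain ⟨l, hl, hbl⟩ := h b
      -- `a = z k⁻¹` with `z` central
      have hcen : ∀ z : C, (z : S) ∈ zpowers s → ∀ c : C, z * c = c * z := by
        intro z hz c
        obtain ⟨i, hi⟩ := mem_zpowers_iff.1 hz
        apply Subtype.ext
        rw [Subgroup.coe_mul, Subgroup.coe_mul, ← hi]
        exact ((show Commute (c : S) s from (hCm c).1 c.2).zpow_right i).eq.symm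
      have ha := hcen (a * k) hak
      have hb := hcen (b * l) hbl
      have h1 : ⁅a, b⁆ = ⁅k⁻¹, l⁻¹⁆ := by
        have e1 : a = (a * k) * k⁻¹ := by group
        have e2 : b = (b * l) * l⁻¹ := by group
        set z := a * k
        set w := b * l
        rw [e1, e2, commutatorElement_def, commutatorElement_def]
        calc z * k⁻¹ * (w * l⁻¹) * (z * k⁻¹)⁻¹ * (w * l⁻¹)⁻¹
            = z * (k⁻¹ * w * l⁻¹ * k) * z⁻¹ * l * w⁻¹ := by group
          _ = (k⁻¹ * w * l⁻¹ * k) * z * z⁻¹ * l * w⁻¹ := by rw [ha]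
          _ = k⁻¹ * (w * (l⁻¹ * k * l)) * w⁻¹ := by group
          _ = k⁻¹ * ((l⁻¹ * k * l) * w) * w⁻¹ := by rw [hb]
          _ = _ := by group
      rw [h1, commutatorElement_def]
      exact mul_mem (mul_mem (mul_mem (inv_mem hk) (inv_mem hl)) (inv_mem (inv_mem hk))) (inv_mem (inv_mem hl))
    rw [hperf] at hle
    exact (hD ⟨s, (hCm s).2 rfl⟩).1 (hle (mem_top _))

end pair

section cover

variable {S H : Type*} [Group S] [Group H]

/-- the conditions of `mem_or_cent` for a centralizer which covers a simple group -/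
theorem normal_or [IsSimpleGroup H] {s : S} (f : ↥(centralizer ({s} : Set S)) →* H) (hs : Function.Surjective f)
    (hk : ∀ c, f c = 1 ↔ (c : S) ∈ zpowers s) (K : Subgroup ↥(centralizer ({s} : Set S))) (hK : K.Normal) :
    (∀ k ∈ K, (k : S) ∈ zpowers s) ∨ ∀ c : ↥(centralizer ({s} : Set S)), ∃ k ∈ K, (c * k : S) ∈ zpowers s := by
  have hn : (K.map f).Normal := hK.map f hs
  rcases hn.eq_bot_or_eq_top with h | h
  · left
    intro k hk'
    have h1 : f k ∈ K.map f := mem_map_of_mem f hk'
    rw [h, mem_bot] at h1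
    exact (hk k).1 h1
  · right
    intro c
    have h1 : (f c)⁻¹ ∈ K.map f := by rw [h]; exact mem_top _
    obtain ⟨k, hk1, hk2⟩ := h1
    refine ⟨k, hk1, ?_⟩
    have h2 := (hk (c * k)).1 (by rw [map_mul, hk2, mul_inv_cancel])
    exact h2

/-- **all proper subgroups have index at least `p d`** -/
theorem index_ge_of_cov [Finite S] [IsSimpleGroup S] {y : S} {p : ℕ} (hp : p.Prime) (ho : orderOf y = p)
    (f : ↥(centralizer ({y} : Set S)) →* H) (hk : ∀ c, f c = 1 ↔ (c : S) ∈ zpowers y) {d : ℕ}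
    (hmem : ∀ K : Subgroup ↥(centralizer ({y} : Set S)), K.index < p * d → f.ker ≤ K)
    {K : Subgroup S} (hK : K ≠ ⊤) : p * d ≤ K.index := by
  have hy1 : y ≠ 1 := by
    rintro rfl
    rw [orderOf_one] at ho
    exact hp.one_lt.ne ho
  by_contra hlt
  push Not at hlt
  apply hK
  have hyC : y ∈ centralizer ({y} : Set S) := mem_centralizer_singleton_iff.2 rfl
  have hall : ∀ g : S, g⁻¹ * y * g ∈ K := by
    intro g
    let Kg : Subgroup S := K.map (MulAut.conj g).toMonoidHom
    have h1 : Kg.index = K.index := index_map_of_bijective (MulAut.conj g).bijective K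
    have h2 : (Kg.subgroupOf (centralizer ({y} : Set S))).index ≤ Kg.index := by
      have : Kg.relIndex (centralizer ({y} : Set S)) ≤ Kg.relIndex ⊤ := relIndex_le_of_le_right le_top (by
        rw [relIndex_top_right]; exact index_ne_zero_of_finite)
      rwa [relIndex_top_right] at this
    have h3 := hmem (Kg.subgroupOf (centralizer ({y} : Set S))) (by omega)
    have h4 : (⟨y, hyC⟩ : centralizer ({y} : Set S)) ∈ Kg.subgroupOf (centralizer ({y} : Set S)) :=
      h3 (by rw [MonoidHom.mem_ker, hk]; exact mem_zpowers y)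
    obtain ⟨k, hk, hky⟩ := mem_subgroupOf.1 h4
    have h5 : g * k * g⁻¹ = y := hky
    have h6 : g⁻¹ * y * g = k := by rw [← h5]; group
    rw [h6]
    exact hk
  have h1 : normalClosure ({y} : Set S) ≤ K := by
    rw [normalClosure, closure_le]
    intro x hx
    obtain ⟨a, ha, hax⟩ := Group.mem_conjugatesOfSet_iff.1 hx
    rw [Set.mem_singleton_iff] at ha
    subst ha
    obtain ⟨c, hc⟩ := isConj_iff.1 hax
    have h2 := hall c⁻¹
    rw [inv_inv, hc] at h2
    exact h2
  rcases (inferInstance : (normalClosure ({y} : Set S)).Normal).eq_bot_or_eq_top with h | h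
  · exfalso
    have h2 : y ∈ normalClosure ({y} : Set S) := subset_normalClosure (Set.mem_singleton y)
    rw [h, mem_bot] at h2
    exact hy1 h2
  · rw [h] at h1
    exact top_le_iff.1 h1

end cover

end Cfsg.Agent.H257.RG
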