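import Cfsg.Agent.H257.RG.Frame
import Cfsg.Agent.H257.OZ.SuzFacts
import Cfsg.Agent.H867.Gen.Suz

/-!
# S3509, row `Suz`: `Suz : 2 ≤ Sym(1782)` is the automorphism group (helper257)

* `kap : A ≃* MulAut Suz`, `ψ (kap a z) = a ψ(z) a⁻¹`;
* `card_cent` : `|C_{Aut(Suz)}(conj g)| = |C_A(ψ g)|`;
* `card_mul` : exact values.
-/

set_option autoImplicit false
set_option maxRecDepth 1000000
set_option exponentiation.threshold 5000

namespace Cfsg.Agent.H257.RG.SuzF

open Subgroup MulAction Cfsg.Agent.H257.RG Cfsg.Agent.H257.OZ Cfsg.Agent.H257.OZ.SuzF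
open Cfsg Cfsg.Spor Cfsg.Agent.H123.Cls Cfsg.Agent.H123.Cls.SuzDat Cfsg.Agent.Lib.BitNet
open Cfsg.Agent.H763.Ore.SuzModel (A N A_conj card_A card_N N_le_A T_mem_A T_notMem)
open Cfsg.Agent.H763.Ore.SuzTab (A_le_Aut)
open Cfsg.Agent.OddHalf.Table.SuzRep (ψ ψ_val ψ_injective)
open Cfsg.Agent.SporadicRecognition.SuzOrder (el card_Suz)
open Equiv (Perm)

/-- the normal subgroup -/
noncomputable def NN : Subgroup A := N.subgroupOf A

instance nn_normal : (NN).Normal := by
  constructor
  intro n hn a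
  exact A_conj a.2 hn

/-- the isomorphism -/
noncomputable def eN : NN ≃* Suz :=
  (subgroupOfEquivOfLe N_le_A).trans (MonoidHom.ofInjective ψ_injective).symm

theorem inc_val (z : Suz) : ((inc eN z : A) : Perm (Fin 1782)) = ψ z := by
  have h : eN.symm z = (subgroupOfEquivOfLe N_le_A).symm ((MonoidHom.ofInjective ψ_injective) z) := rfl
  show ((eN.symm z : NN) : A).1 = ψ z
  rw [h]
  rfl

theorem cent_bot : centralizer (NN : Set A) = ⊥ := by
  have := fin
  rw [eq_bot_iff]
  intro a ha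
  rw [mem_centralizer_iff] at ha
  rw [mem_bot]
  obtain ⟨g, hg⟩ := exists_tab m16
  -- `|C_A(ψ g)| = 13`
  have h1 : 12 < orderOf (ψ g) := lt_orderOf hg 1 chk16
  have h2 := cent_A_le m16 hg
  have h3 : ∀ z : Suz, ψ z * (a : Perm (Fin 1782)) = a * ψ z := by
    intro z
    have h4 := ha (inc eN z) (inc_mem eN z)
    have h5 := congrArg (fun b : A => (b : Perm (Fin 1782))) h4
    simp only [Subgroup.coe_mul, inc_val] at h5
    exact h5
  have h4 : zpowers (ψ g) ≤ A ⊓ centralizer {ψ g} := by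
    rw [zpowers_le]
    exact mem_inf.2 ⟨N_le_A ⟨g, rfl⟩, mem_centralizer_singleton_iff.2 rfl⟩
  have h5 : zpowers (ψ g) = A ⊓ centralizer {ψ g} := by
    refine eq_of_le_of_card_ge h4 (h2.trans ?_)
    rw [Nat.card_zpowers]
    exact h1
  have h6 : (a : Perm (Fin 1782)) ∈ zpowers (ψ g) := by
    rw [h5]
    exact mem_inf.2 ⟨a.2, mem_centralizer_singleton_iff.2 (h3 g).symm⟩
  obtain ⟨k, hk⟩ := mem_zpowers_iff.1 h6
  have h7 : g ^ k ∈ center Suz := by
    rw [mem_center_iff]
    intro z
    apply ψ_injective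
    rw [map_mul, map_mul, map_zpow, hk]
    exact h3 z
  rw [Cfsg.Agent.H867.Gen.Suz.center_suz, mem_bot] at h7
  apply Subtype.ext
  rw [← hk, ← map_zpow, h7, map_one]
  rfl

theorem finAut : Finite (MulAut Suz) := by
  have := fin
  exact Finite.of_injective (fun α : MulAut Suz => (α : Suz → Suz)) fun α β h => MulEquiv.ext (congrFun h)

theorem card_aut : Nat.card (MulAut Suz) ≤ 2 * 448345497600 := by
  have := fin
  have := finAut
  rw [← card_mul_index (MulAut.conj : Suz →* MulAut Suz).range]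
  have h1 : Nat.card (MulAut.conj : Suz →* MulAut Suz).range ≤ Nat.card Suz :=
    Nat.card_le_card_of_surjective _ (MulAut.conj : Suz →* MulAut Suz).rangeRestrict_surjective
  rw [card_Suz] at h1
  rcases Cfsg.Agent.KFacts.SuzOut.index_eq with h | h
  · rw [h]; omega
  · rw [h]; omega

theorem bij : Function.Bijective (act eN) := by
  have := finAut
  have hi := act_inj eN cent_bot
  refine (Nat.bijective_iff_injective_and_card _).2 ⟨hi, ?_⟩
  have h1 := Nat.card_le_card_of_injective _ hi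
  have h2 := card_A
  have h3 := card_aut
  omega

/-- **the automorphism group** -/
noncomputable def kap : A ≃* MulAut Suz := MulEquiv.ofBijective (act eN) bij

theorem kap_spec (a : A) (z : Suz) : ψ (kap a z) = a * ψ z * (a : Perm (Fin 1782))⁻¹ := by
  have h := inc_act eN a z
  have h1 := congrArg (fun b : A => (b : Perm (Fin 1782))) h
  simp only [Subgroup.coe_mul, Subgroup.coe_inv, inc_val] at h1
  exact h1

theorem kap_inc (z : Suz) : kap (inc eN z) = MulAut.conj z := act_inc eN z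

theorem card_A_eq : Nat.card A = 2 * 448345497600 := by
  have := finAut
  have h1 : Nat.card A = Nat.card (MulAut Suz) := Nat.card_congr kap.toEquiv
  have h2 := card_A
  have h3 := card_aut
  omega

/-- centralizers -/
theorem card_cent (g : Suz) : Nat.card ↥(centralizer ({MulAut.conj g} : Set (MulAut Suz))) =
    Nat.card ↥(A ⊓ centralizer {ψ g}) := by
  refine (Nat.card_congr (Equiv.ofBijective (fun z : ↥(A ⊓ centralizer {ψ g}) =>
    (⟨kap ⟨z, (mem_inf.1 z.2).1⟩, ?_⟩ : ↥(centralizer ({MulAut.conj g} : Set (MulAut Suz))))) ⟨?_, ?_⟩)).symm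
  · rw [mem_centralizer_singleton_iff, ← kap_inc, ← map_mul, ← map_mul]
    congr 1
    apply Subtype.ext
    rw [Subgroup.coe_mul, Subgroup.coe_mul, inc_val]
    exact mem_centralizer_singleton_iff.1 (mem_inf.1 z.2).2
  · intro a b hab
    have h1 : kap ⟨(a : Perm (Fin 1782)), (mem_inf.1 a.2).1⟩ = kap ⟨(b : Perm (Fin 1782)), (mem_inf.1 b.2).1⟩ :=
      congrArg (fun z : ↥(centralizer ({MulAut.conj g} : Set (MulAut Suz))) => (z : MulAut Suz)) hab
    have h2 := congrArg (fun z : A => (z : Perm (Fin 1782))) (kap.injective h1)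
    exact Subtype.ext h2
  · rintro ⟨α, hα⟩
    obtain ⟨a, rfl⟩ := kap.surjective α
    rw [mem_centralizer_singleton_iff, ← kap_inc, ← map_mul, ← map_mul] at hα
    have h1 := congrArg (fun z : A => (z : Perm (Fin 1782))) (kap.injective hα)
    simp only [Subgroup.coe_mul, inc_val] at h1
    exact ⟨⟨a, mem_inf.2 ⟨a.2, mem_centralizer_singleton_iff.2 h1⟩⟩, rfl⟩

/-- the class sizes -/
theorem sizes : ∀ i : Fin D.length, ∀ r : Perm (Fin 1782), r ∈ N → (∀ p : Fin 1782, (r p : ℕ) = lk 11 (D[i.1]).1 p) →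
    (cls A r).ncard = 2 * 448345497600 / ((D[i.1]).2.1 + 1) := by
  have hmem : ∀ i : Fin D.length, D[i.1] ∈ D := fun i => List.getElem_mem i.2
  have hinj : Function.Injective (fun i : Fin D.length => (D[i.1]).2.2) := by
    intro i j hij
    have h1 := (List.nodup_iff_injective_get.1 D_nodup)
    have h2 : (⟨i.1, by rw [List.length_map]; exact i.2⟩ : Fin (D.map fun x => x.2.2).length) =
        ⟨j.1, by rw [List.length_map]; exact j.2⟩ := by
      apply h1
      simpa using hij
    have h3 := congrArg Fin.val h2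
    exact Fin.ext h3
  have hsum' : Nat.card N ≤ ∑ i : Fin D.length, 2 * 448345497600 / ((D[i.1]).2.1 + 1) := by
    rw [Fin.sum_univ_fun_getElem D (fun x => 2 * 448345497600 / (x.2.1 + 1)), card_N]
    exact Nat.le_of_ble_eq_true D_sum
  choose r hrN hrp using fun i : Fin D.length => D_mem _ (hmem i)
  have h12 := exact_sizes (A := A) (N := N) (fun _ ha _ hx => A_conj ha hx) r hrN
    (fun i : Fin D.length => (D[i.1]).2.1 + 1)
    (fun i : Fin D.length => 2 * 448345497600 / ((D[i.1]).2.1 + 1)) ?_ ?_ ?_ hsum'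
  · intro i r' hr' hrp'
    have e : r' = r i := perm_eq_of_tab hrp' (hrp i)
    rw [e]
    exact h12.2 i
  · intro i
    exact cent_A_le (hmem i) (hrp i)
  · intro i j hij b hb h1
    apply hij
    apply hinj
    show (D[i.1]).2.2 = (D[j.1]).2.2
    rw [← sig_of_chk (by norm_num) (hrp i) (D_sg _ (hmem i)) (D_len _ (hmem i)),
      ← sig_of_chk (by norm_num) (hrp j) (D_sg _ (hmem j)) (D_len _ (hmem j))]
    refine List.map_congr_left fun k _ => ?_
    rw [← h1, pwc_conj (A_le_Aut hb)]
  · exact fun i => Nat.div_le_div_right card_A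

/-- exact order of the centralizer -/
theorem card_mul {i : ℕ} (hi : i < D.length) {r : Perm (Fin 1782)} (hr : r ∈ N)
    (h : ∀ p : Fin 1782, (r p : ℕ) = lk 11 (D[i]).1 p) :
    Nat.card ↥(A ⊓ centralizer {r}) * (2 * 448345497600 / ((D[i]).2.1 + 1)) = 2 * 448345497600 := by
  rw [← sizes ⟨i, hi⟩ r hr h, ← card_eq_mul, card_A_eq]

end Cfsg.Agent.H257.RG.SuzF
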