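import Cfsg.Agent.H257.RG.SuzAut

/-!
# S3509, row `Suz`: orders of the elements of the 37 classes (helper257)

* `idx_of` : the classes of the elements of a given order;
* `coprime_case` : commuting elements of different odd prime orders: `{3, 5}` or `{3, 7}`.
-/

set_option autoImplicit false
set_option maxRecDepth 1000000
set_option exponentiation.threshold 5000

namespace Cfsg.Agent.H257.RG.SuzF

open Subgroup MulAction Cfsg.Agent.H257.RG Cfsg.Agent.H257.OZ Cfsg.Agent.H257.OZ.SuzF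
open Cfsg Cfsg.Spor Cfsg.Agent.H123.Cls Cfsg.Agent.H123.Cls.SuzDat Cfsg.Agent.Lib.BitNet
open Cfsg.Agent.H763.Ore.SuzModel (A N A_conj card_A card_N N_le_A T_mem_A T_notMem)
open Cfsg.Agent.OddHalf.Table.SuzRep (ψ ψ_val ψ_injective)
open Cfsg.Agent.SporadicRecognition.SuzOrder (el card_Suz)
open Equiv (Perm)

/-- a point on a cycle of length the order; the order; a bound -/
def Y : List (ℕ × ℕ × ℕ) := [(2, 2, 0), (0, 1, 1), (0, 4, 0), (0, 6, 0), (0, 3, 3), (0, 20, 0), (1, 3, 3), (0, 12, 0), (0, 12, 0), (0, 11, 11), (0, 14, 0), (0, 8, 0), (1, 10, 0), (4, 15, 15), (1, 5, 5), (0, 6, 0), (1, 13, 13), (14, 21, 21), (0, 15, 15), (0, 12, 0), (0, 9, 0), (0, 18, 0), (0, 4, 0), (0, 8, 0), (14, 12, 0), (1, 10, 0), (0, 12, 0), (1, 24, 0), (2, 6, 0), (0, 7, 7), (1, 8, 0), (0, 2, 0), (0, 6, 0), (1, 4, 0), (1, 5, 5), (2, 4, 0), (4, 3, 3)]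

noncomputable def chkY (x : ℕ × ℕ × List ℕ) (y : ℕ × ℕ × ℕ) : Bool :=
  Nat.blt y.1 1782 && (Nat.blt 0 y.2.1 && (Nat.beq (it 11 x.1 y.2.1 y.1) y.1 && (chkO x.1 y.1 (y.2.1 - 1) &&
    (Nat.beq y.2.2 0 || allN (fun p => Nat.beq (it 11 x.1 y.2.2 p) p) 1782))))

theorem chkA : ((D.zip Y).all fun z => chkY z.1 z.2) = true := by
  unfold D Y
  decide +kernel

theorem dvd_order {P : ℕ} {r : Perm (Fin 1782)} (h : ∀ p : Fin 1782, (r p : ℕ) = lk 11 P p) (q : Fin 1782) {o : ℕ}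
    (ho : 0 < o) (h1 : it 11 P o q = q) (hc : chkO P q (o - 1) = true) : o ∣ orderOf r := by
  have h2 : (r ^ o) q = q := Fin.ext (by rw [pow_tab h, h1])
  have h3 : ∀ k : ℕ, (r ^ (o * k)) q = q := by
    intro k
    rw [pow_mul]
    exact Equiv.Perm.pow_apply_eq_self_of_apply_eq_self h2 k
  have h4 : (r ^ (orderOf r % o)) q = q := by
    have h5 : (r ^ (orderOf r % o)) ((r ^ (o * (orderOf r / o))) q) = q := by
      rw [← Equiv.Perm.mul_apply, ← pow_add, Nat.mod_add_div, pow_orderOf_eq_one, Equiv.Perm.one_apply]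
    rwa [h3] at h5
  by_contra hd
  have h6 : orderOf r % o ≠ 0 := fun h => hd (Nat.dvd_of_mod_eq_zero h)
  have h7 : orderOf r % o < o := Nat.mod_lt _ ho
  have h8 := (allN_iff _ _).1 hc (orderOf r % o - 1) (by omega)
  have h9 : orderOf r % o - 1 + 1 = orderOf r % o := by omega
  rw [h9, ← pow_tab h, h4] at h8
  simp at h8

/-- **class and order** -/
theorem cls_of (g : Suz) : ∃ (i : ℕ) (x : ℕ × ℕ × List ℕ) (y : ℕ × ℕ × ℕ), i < 37 ∧ D[i]? = some x ∧ Y[i]? = some y ∧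
    (∃ (r : Suz) (α : MulAut Suz), (∀ p : Fin 1782, (ψ r p : ℕ) = lk 11 x.1 p) ∧ g = α r) ∧
    y.2.1 ∣ orderOf g ∧ orderOf g ∣ y.2.2 := by
  obtain ⟨x, hx, r, ⟨r0, rfl⟩, hr, b, hb, hg⟩ := suz_cover (ψ g) ⟨g, rfl⟩
  obtain ⟨i, hi⟩ := List.mem_iff_getElem?.1 hx
  have hi37 : i < 37 := by
    have := (List.getElem?_eq_some_iff.1 hi).1
    exact this
  have hY : ∃ y, Y[i]? = some y := ⟨Y[i]'hi37, List.getElem?_eq_getElem _⟩
  obtain ⟨y, hy⟩ := hY
  have hz : (x, y) ∈ D.zip Y := List.mem_iff_getElem?.2 ⟨i, List.getElem?_zip_eq_some.2 ⟨hi, hy⟩⟩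
  have hc := List.all_eq_true.1 chkA _ hz
  unfold chkY at hc
  simp only [Bool.and_eq_true, Bool.or_eq_true] at hc
  obtain ⟨c1, c2, c3, c4, c5⟩ := hc
  have d1 : y.1 < 1782 := by simpa [Nat.blt_eq] using c1
  have d2 : 0 < y.2.1 := by simpa [Nat.blt_eq] using c2
  have hα : g = kap ⟨b, hb⟩ r0 := by
    apply ψ_injective
    rw [kap_spec]
    exact hg
  have ho : orderOf g = orderOf r0 := by rw [hα, MulEquiv.orderOf_eq]
  have ho2 : orderOf (ψ r0) = orderOf r0 := orderOf_injective ψ ψ_injective r0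
  refine ⟨i, x, y, hi37, hi, hy, ⟨r0, kap ⟨b, hb⟩, hr, hα⟩, ?_, ?_⟩
  · rw [ho, ← ho2]
    exact dvd_order hr ⟨y.1, d1⟩ d2 (Nat.eq_of_beq_eq_true c3) c4
  · rcases c5 with c5 | c5
    · rw [Nat.eq_of_beq_eq_true c5]
      exact dvd_zero _
    · rw [ho, ← ho2]
      refine orderOf_dvd_of_pow_eq_one ?_
      ext p
      rw [pow_tab hr, Equiv.Perm.one_apply]
      exact Nat.eq_of_beq_eq_true ((allN_iff _ _).1 c5 p p.2)

/-- the test for the classes of elements of order `n` -/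
def tst (n : ℕ) (L : List ℕ) : Bool :=
  (List.range 37).all fun i => !(n % (Y.getD i (0, 0, 0)).2.1 == 0 && (Y.getD i (0, 0, 0)).2.2 % n == 0) || L.contains i

theorem idx_of {g : Suz} {n : ℕ} (hn : orderOf g = n) (L : List ℕ) (hL : tst n L = true) :
    ∃ (i : ℕ) (x : ℕ × ℕ × List ℕ), i ∈ L ∧ D[i]? = some x ∧
    ∃ (r : Suz) (α : MulAut Suz), (∀ p : Fin 1782, (ψ r p : ℕ) = lk 11 x.1 p) ∧ g = α r := by
  obtain ⟨i, x, y, hi, hx, hy, hr, h1, h2⟩ := cls_of g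
  have h3 := List.all_eq_true.1 hL i (List.mem_range.2 hi)
  rw [List.getD_eq_getElem?_getD, hy, Option.getD_some, ← hn, Nat.mod_eq_zero_of_dvd h1, Nat.mod_eq_zero_of_dvd h2] at h3
  simp only [beq_self_eq_true, Bool.and_self, Bool.not_true, Bool.false_or, List.contains_iff_mem] at h3
  exact ⟨i, x, h3, hx, hr⟩

theorem no_order {n : ℕ} (hL : tst n [] = true) (g : Suz) : orderOf g ≠ n := by
  intro h
  obtain ⟨i, x, hi, -⟩ := idx_of h [] hL
  exact absurd hi (List.not_mem_nil)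

/-- orders of products of commuting elements -/
theorem order_prod {G : Type*} [Group G] {x y : G} {p q : ℕ} (hp : p.Prime) (hq : q.Prime) (hpq : p ≠ q) (hx : x ^ p = 1) (hx1 : x ≠ 1)
    (hy : y ^ q = 1) (hy1 : y ≠ 1) (h : x * y = y * x) : orderOf (x * y) = p * q := by
  have := Fact.mk hp
  have := Fact.mk hq
  have h1 : orderOf x = p := orderOf_eq_prime hx hx1
  have h2 : orderOf y = q := orderOf_eq_prime hy hy1
  rw [(show Commute x y from h).orderOf_mul_eq_mul_orderOf_of_coprime (by rw [h1, h2]; exact (Nat.coprime_primes hp hq).2 hpq),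
    h1, h2]

theorem primes {g : Suz} {p : ℕ} (hp : p.Prime) (hg : g ^ p = 1) (hg1 : g ≠ 1) :
    p = 2 ∨ p = 3 ∨ p = 5 ∨ p = 7 ∨ p = 11 ∨ p = 13 := by
  have := Fact.mk hp
  have h : orderOf g = p := orderOf_eq_prime hg hg1
  exact Cfsg.Agent.H867.Gen.Suz.primes hp (h ▸ orderOf_dvd_natCard g)

/-- **two different odd primes** -/
theorem pairs {g h : Suz} {p q : ℕ} (hp : p.Prime) (hq : q.Prime) (hpq : p < q) (hp2 : p ≠ 2) (hg : g ^ p = 1)
    (hg1 : g ≠ 1) (hh : h ^ q = 1) (hh1 : h ≠ 1) (hgh : g * h = h * g) : p = 3 ∧ (q = 5 ∨ q = 7) := by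
  have ho := order_prod hp hq hpq.ne hg hg1 hh hh1 hgh
  rcases primes hp hg hg1 with rfl | rfl | rfl | rfl | rfl | rfl <;>
    rcases primes hq hh hh1 with rfl | rfl | rfl | rfl | rfl | rfl
  all_goals first
    | (exfalso; omega)
    | exact ⟨rfl, Or.inl rfl⟩
    | exact ⟨rfl, Or.inr rfl⟩
    | exact absurd ho (no_order (by decide) _)

end Cfsg.Agent.H257.RG.SuzF
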