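import Cfsg.Agent.H257.RG.Frame
import Cfsg.Agent.H147.Fpr.Suz

/-!
# S3509, row `Suz`: index of the proper subgroups, subgroups of order divisible by 11 and 13 (helper257)

* `index_ge` : all proper subgroups have index at least 336;
* `pair_y0` : the pair rule at `y0`;
* `top_of_dvd` : subgroups of order divisible by 11 and 13 are not proper.
-/

set_option autoImplicit false
set_option maxRecDepth 100000

namespace Cfsg.Agent.H257.RG.SuzF

open Subgroup MulAction Cfsg.Agent.H257.RG Cfsg.Agent.H940.Eng Cfsg.Agent.H940.Eng.D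
open Cfsg.Agent.SuzThree.ThreeWr (y0)
open Cfsg.Spor (Suz)

theorem card : Nat.card Suz = n_suz := Cfsg.Agent.SporadicRecognition.SuzOrder.card_Suz

/-- the cover -/
theorem cover : ∃ f : ↥(centralizer ({(y0 : Suz)} : Set Suz)) →* LThreeCo1Twelve.Gam.H, Function.Surjective f ∧
    (∀ c, f c = 1 ↔ (c : Suz) ∈ zpowers (y0 : Suz)) ∧ Nat.card f.ker = 3 ∧ (∀ z ∈ f.ker, ∀ c, z * c = c * z) ∧
    commutator ↥(centralizer ({(y0 : Suz)} : Set Suz)) = ⊤ := by
  haveI := H212.SuzFive.fin
  haveI := Cfsg.Agent.LThreeCo1Twelve.Gam.simple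
  obtain ⟨f, hs, hk⟩ := Cfsg.Agent.H811.SuzCov.cov
  have hyC : (y0 : Suz) ∈ centralizer ({(y0 : Suz)} : Set Suz) := mem_centralizer_singleton_iff.2 rfl
  have hkmem : ∀ c : ↥(centralizer ({(y0 : Suz)} : Set Suz)), c ∈ f.ker ↔ (c : Suz) ∈ zpowers (y0 : Suz) := fun c => by
    rw [MonoidHom.mem_ker, hk]
  have hkz : f.ker = zpowers (⟨y0, hyC⟩ : ↥(centralizer ({(y0 : Suz)} : Set Suz))) := by
    ext c
    rw [hkmem, mem_zpowers_iff, mem_zpowers_iff]
    constructor
    · rintro ⟨k, hk⟩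
      exact ⟨k, Subtype.ext (by rw [Subgroup.coe_zpow]; exact hk)⟩
    · rintro ⟨k, hk⟩
      exact ⟨k, by rw [← hk, Subgroup.coe_zpow]⟩
  refine ⟨f, hs, hk, ?_, ?_, ?_⟩
  · rw [hkz, Nat.card_zpowers, ← Subgroup.orderOf_coe]
    exact CpAutSuz.Local.orderOf_y0
  · intro z hz c
    obtain ⟨k, hk⟩ := mem_zpowers_iff.1 ((hkmem z).1 hz)
    apply Subtype.ext
    have h1 : (c : Suz) * y0 = y0 * c := mem_centralizer_singleton_iff.1 c.2
    have h2 : Commute (c : Suz) ((y0 : Suz) ^ k) := Commute.zpow_right h1 k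
    rw [Subgroup.coe_mul, Subgroup.coe_mul, ← hk]
    exact h2.eq.symm
  · refine H212.SuzFive.perfect_of_cov (fun h => Cfsg.Agent.LThreeCo1Twelve.Gam.not_comm ⟨⟨h⟩⟩) f hs ?_
    rw [hkz, zpowers_le]
    exact H811.SuzYZero.mem_comm

/-- **all proper subgroups have index at least 336** -/
theorem index_ge (K : Subgroup Suz) (hK : K ≠ ⊤) : 336 ≤ K.index := by
  haveI := H212.SuzFive.fin
  haveI : IsSimpleGroup Suz := H212.SuzFive.simple
  obtain ⟨f, hs, hk, hc, hz, hp⟩ := cover
  exact index_ge_of_cov (p := 3) (d := 112) Nat.prime_three CpAutSuz.Local.orderOf_y0 f hk (fun K hK =>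
    H212.SuzFive.mem_of_index_lt f hs hz hp Nat.prime_three hc H212.SuzFive.min_H hK) hK

theorem loc13 : Loc Suz ⟨13, 13, [(2, 1), (3, 1), (13, 1)]⟩ := by
  haveI := H212.SuzFive.fin
  haveI : IsSimpleGroup Suz := H212.SuzFive.simple
  have hd : ∀ R : Subgroup Suz, Nat.card R = 13 → Nat.card (centralizer (R : Set Suz)) = 13 ∧
      Nat.card (normalizer (R : Set Suz)) = 78 := by
    intro R hR
    obtain ⟨z, hz, hc⟩ := H474.Suz13.suz_thirteen
    have hR0 : Nat.card (zpowers (z : Suz)) = 13 := by rw [Nat.card_zpowers, hz]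
    refine cn_exact H212.SuzFive.not_comm card (by decide +kernel) (by decide +kernel) (fC := [(13, 1)]) (by decide +kernel)
      hR0 ?_ (by decide +kernel) hR
    rw [H904.SylOne.centralizer_zpowers_eq, hc]
    decide +kernel
  exact loc_of_eq card (by decide +kernel) (by decide +kernel) (by decide +kernel) fun R hR => by
    obtain ⟨h1, h2⟩ := hd R hR
    rw [h1, h2]; decide

/-- **subgroups of order divisible by 11 and 13** -/
theorem top_of_dvd (B : Base) {H : Subgroup Suz} (h11 : 11 ∣ Nat.card H) (h13 : 13 ∣ Nat.card H) : H = ⊤ := by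
  haveI := H212.SuzFive.fin
  haveI : IsSimpleGroup Suz := H212.SuzFive.simple
  by_contra hH
  have c := H212.SuzFive.ctx B
  have hl : ∀ ld ∈ [(⟨13, 13, [(2, 1), (3, 1), (13, 1)]⟩ : LD), ⟨11, 11, [(2, 1), (5, 1), (11, 1)]⟩,
      ⟨7, 84, [(2, 3), (3, 2), (7, 1)]⟩], Loc Suz ld := by
    intro ld hld
    simp only [List.mem_cons, List.not_mem_nil, or_false] at hld
    rcases hld with rfl | rfl | rfl
    · exact loc13
    · exact c.loc _ (by simp [H212.SuzFive.loc])
    · exact c.loc _ (by simp [H212.SuzFive.loc])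
  have h := top_of_check (G := Suz) v_suz card (ords_suz B) hl (allow := [144]) (full := []) (bd := 20)
    (lD := [(2, 13), (3, 7), (5, 2), (7, 1)]) (by decide +kernel) (L := 143) (by decide +kernel) (H := H)
    (by simp) (Nat.Coprime.mul_dvd_of_dvd_of_dvd (by norm_num) h11 h13) (by decide +kernel)
  rcases h with h | h
  · exact hH h
  · have h1 := index_ge H hH
    rw [List.mem_singleton.1 h] at h1
    omega

end Cfsg.Agent.H257.RG.SuzF
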