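import Cfsg.Agent.H257.RG.SuzCls
import Cfsg.Agent.H257.RG.SuzIdx

/-!
# S3509, row `Suz`: two conjugates of the elements of order 3 outside 3A generate (helper257)

* `cg_three` : an element of order 3 is conjugate to `y0` under `Aut(Suz)`, or `CG 2`.
-/

set_option autoImplicit false
set_option maxRecDepth 1000000
set_option exponentiation.threshold 5000

namespace Cfsg.Agent.H257.RG.SuzF

open Subgroup MulAction Cfsg.Agent.H257.RG Cfsg.Agent.H257.OZ Cfsg.Agent.H257.OZ.SuzF
open Cfsg Cfsg.Spor Cfsg.Agent.H123.Cls Cfsg.Agent.H123.Cls.SuzDat Cfsg.Agent.Lib.BitNet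
open Cfsg.Agent.H763.Ore.SuzModel (A N A_conj card_A card_N N_le_A T_mem_A T_notMem)
open Cfsg.Agent.OddHalf.Table.SuzRep (ψ ψ_val ψ_injective)
open Cfsg.Agent.SporadicRecognition.SuzOrder (el card_Suz)
open Cfsg.Agent.H147.Gen
open Cfsg.Agent.SuzThree.ThreeWr (y0)
open Equiv (Perm)

/-- syllables: `x, u x u⁻¹, x², u x² u⁻¹` -/
def sy (x u : Suz) : ℕ → Suz
  | 0 => x
  | 1 => u * x * u⁻¹
  | 2 => x ^ 2
  | _ => u * x ^ 2 * u⁻¹

/-- evaluation at a point -/
noncomputable def sv (P : ℕ) (u v : List ℕ) (s : ℕ) (q : ℕ) : ℕ :=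
  match s with
  | 0 => lk 11 P q
  | 1 => evw 11 gens u (lk 11 P (evw 11 gens v q))
  | 2 => it 11 P 2 q
  | _ => evw 11 gens u (it 11 P 2 (evw 11 gens v q))

noncomputable def wv (P : ℕ) (u v : List ℕ) : List ℕ → ℕ → ℕ
  | [], q => q
  | s :: L, q => sv P u v s (wv P u v L q)

/-- the product of the syllables -/
def wd (x u : Suz) (L : List ℕ) : Suz := (L.map (sy x u)).prod

theorem gn_inv (k : ℕ) : (PresentedGroup.of (gn k) : Suz)⁻¹ = PresentedGroup.of (gn k) := by
  have h := Cfsg.Agent.H867.Gen.Suz.sq_gen (gn k)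
  have h1 : el [gn k] = PresentedGroup.of (gn k) := by simp [el]
  rw [h1] at h
  exact inv_eq_of_mul_eq_one_left h

theorem el_rev (l : List ℕ) : el ((l.reverse).map gn) = (el (l.map gn))⁻¹ := by
  induction l with
  | nil => simp [el]
  | cons a l ih =>
    have e1 : el ((a :: l).map gn) = PresentedGroup.of (gn a) * el (l.map gn) := by
      simp only [el, List.map_cons, List.prod_cons]
    have e2 : el (((a :: l).reverse).map gn) = el ((l.reverse).map gn) * PresentedGroup.of (gn a) := by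
      simp only [el, List.reverse_cons, List.map_append, List.prod_append, List.map_cons, List.map_nil, List.prod_cons,
        List.prod_nil, mul_one]
    rw [e1, e2, ih, mul_inv_rev, gn_inv]

variable {x : Suz} {P : ℕ} {u v : List ℕ}

theorem sv_eq (hx : ∀ p : Fin 1782, (ψ x p : ℕ) = lk 11 P p) (hu : ∀ k ∈ u, k < 7) (hv : v = u.reverse) (s : ℕ)
    (q : Fin 1782) : (ψ (sy x (el (u.map gn)) s) q : ℕ) = sv P u v s q := by
  have hvu : ∀ k ∈ v, k < 7 := by
    intro k hk
    rw [hv, List.mem_reverse] at hk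
    exact hu k hk
  have hinv : (el (u.map gn))⁻¹ = el (v.map gn) := by rw [hv, el_rev]
  have h2 : ∀ p : Fin 1782, (ψ (x ^ 2) p : ℕ) = it 11 P 2 p := fun p => by rw [map_pow, pow_tab hx]
  match s with
  | 0 => exact hx q
  | 1 =>
    show (ψ (el (u.map gn) * x * (el (u.map gn))⁻¹) q : ℕ) = evw 11 gens u (lk 11 P (evw 11 gens v q))
    rw [hinv, map_mul, map_mul, Equiv.Perm.mul_apply, Equiv.Perm.mul_apply, ev_tab u hu, hx, ev_tab v hvu]
  | 2 => exact h2 q
  | (k + 3) =>
    show (ψ (el (u.map gn) * x ^ 2 * (el (u.map gn))⁻¹) q : ℕ) = evw 11 gens u (it 11 P 2 (evw 11 gens v q))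
    rw [hinv, map_mul, map_mul, Equiv.Perm.mul_apply, Equiv.Perm.mul_apply, ev_tab u hu, h2, ev_tab v hvu]

theorem wv_eq (hx : ∀ p : Fin 1782, (ψ x p : ℕ) = lk 11 P p) (hu : ∀ k ∈ u, k < 7) (hv : v = u.reverse) (L : List ℕ)
    (q : Fin 1782) : (ψ (wd x (el (u.map gn)) L) q : ℕ) = wv P u v L q := by
  induction L with
  | nil => simp [wd, wv]
  | cons s L ih =>
    have e : wd x (el (u.map gn)) (s :: L) = sy x (el (u.map gn)) s * wd x (el (u.map gn)) L := by
      simp only [wd, List.map_cons, List.prod_cons]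
    rw [e, map_mul, Equiv.Perm.mul_apply, sv_eq hx hu hv, ih]
    rfl

/-- repetition -/
def rep : ℕ → List ℕ → List ℕ
  | 0, _ => []
  | n + 1, L => L ++ rep n L

theorem wd_rep (u : Suz) (n : ℕ) (L : List ℕ) : wd x u (rep n L) = wd x u L ^ n := by
  induction n with
  | zero => simp [rep, wd]
  | succ n ih =>
    rw [rep, pow_succ', ← ih]
    simp only [wd, List.map_append, List.prod_append]

/-- `q` is on a cycle of prime length `l` -/
noncomputable def chkW (P : ℕ) (u v : List ℕ) (L : List ℕ) (l : ℕ) : Bool :=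
  Nat.beq (wv P u v (rep l L) 0) 0 && !(Nat.beq (wv P u v L 0) 0)

theorem dvd_of_chk (hx : ∀ p : Fin 1782, (ψ x p : ℕ) = lk 11 P p) (hu : ∀ k ∈ u, k < 7) (hv : v = u.reverse) {L : List ℕ}
    {l : ℕ} (hl : l.Prime) (hc : chkW P u v L l = true) : l ∣ orderOf (wd x (el (u.map gn)) L) := by
  by_contra hd
  set w := wd x (el (u.map gn)) L with hw
  unfold chkW at hc
  rw [Bool.and_eq_true] at hc
  obtain ⟨c1, c2⟩ := hc
  let q : Fin 1782 := ⟨0, by norm_num⟩
  have h1 : ψ (w ^ l) q = q := by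
    apply Fin.ext
    rw [hw, ← wd_rep, wv_eq hx hu hv]
    exact Nat.eq_of_beq_eq_true c1
  have h2 : ψ w q ≠ q := by
    intro h
    have h3 : (ψ w q : ℕ) = 0 := congrArg Fin.val h
    rw [hw, wv_eq hx hu hv] at h3
    have h4 : wv P u v L 0 = 0 := h3
    rw [h4] at c2
    simp at c2
  obtain ⟨m, hm⟩ := exists_pow_eq_self_of_coprime (x := w) (n := l)
    ((Nat.Prime.coprime_iff_not_dvd hl).2 hd)
  apply h2
  rw [← hm, map_pow]
  exact Equiv.Perm.pow_apply_eq_self_of_apply_eq_self h1 m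

theorem sy_mem (x u : Suz) (s : ℕ) : sy x u s ∈ closure ({x, u * x * u⁻¹} : Set Suz) := by
  have h1 : x ∈ closure ({x, u * x * u⁻¹} : Set Suz) := subset_closure (by simp)
  have h2 : u * x * u⁻¹ ∈ closure ({x, u * x * u⁻¹} : Set Suz) := subset_closure (by simp)
  match s with
  | 0 => exact h1
  | 1 => exact h2
  | 2 => exact pow_mem h1 2
  | (k + 3) =>
    show u * x ^ 2 * u⁻¹ ∈ _
    rw [← conj_pow]
    exact pow_mem h2 2

theorem wd_mem (x u : Suz) (L : List ℕ) : wd x u L ∈ closure ({x, u * x * u⁻¹} : Set Suz) := by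
  unfold wd
  apply Subgroup.list_prod_mem
  intro y hy
  obtain ⟨s, -, rfl⟩ := List.mem_map.1 hy
  exact sy_mem x u s

theorem cg_of_chk (B : Cfsg.Agent.H940.Eng.Base) (hx : ∀ p : Fin 1782, (ψ x p : ℕ) = lk 11 P p) (hu : ∀ k ∈ u, k < 7)
    (hv : v = u.reverse) {L1 L2 : List ℕ} (h1 : chkW P u v L1 11 = true) (h2 : chkW P u v L2 13 = true) : CG 2 x := by
  set w := el (u.map gn) with hw
  have key : ∀ (L : List ℕ) (l : ℕ), l.Prime → chkW P u v L l = true →
      l ∣ Nat.card (closure ({x, w * x * w⁻¹} : Set Suz)) := by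
    intro L l hl hc
    refine (dvd_of_chk hx hu hv hl hc).trans ?_
    have h3 := wd_mem x w L
    have h4 : orderOf (⟨wd x w L, h3⟩ : closure ({x, w * x * w⁻¹} : Set Suz)) = orderOf (wd x w L) := by
      rw [← Subgroup.orderOf_coe]
    rw [← hw, ← h4]
    exact orderOf_dvd_natCard _
  have htop := top_of_dvd B (key L1 11 (by norm_num) h1) (key L2 13 (by norm_num) h2)
  refine ⟨![1, w], ?_⟩
  rw [eq_top_iff, ← htop, closure_le]
  rintro z (rfl | hz)
  · exact subset_closure ⟨0, by simp⟩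
  · rw [Set.mem_singleton_iff] at hz
    rw [hz]
    exact subset_closure ⟨1, by simp⟩

def uB : List ℕ := [0, 2, 4, 5, 3, 1, 2, 4, 5, 0]
def uC : List ℕ := [0, 3, 2, 1, 4, 0, 5, 6, 3, 1]

theorem kB13 : chkW p4 uB uB.reverse [0, 1, 2, 3] 13 = true := by decide +kernel
theorem kB11 : chkW p4 uB uB.reverse [0, 1, 0, 1, 2, 1, 0, 3] 11 = true := by decide +kernel
theorem kC13 : chkW p6 uC uC.reverse [0, 1, 0, 3] 13 = true := by decide +kernel
theorem kC11 : chkW p6 uC uC.reverse [0, 1, 0, 1, 0, 3] 11 = true := by decide +kernel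

theorem cg_B (B : Cfsg.Agent.H940.Eng.Base) (hx : ∀ p : Fin 1782, (ψ x p : ℕ) = lk 11 p4 p) : CG 2 x :=
  cg_of_chk B hx (by decide) rfl kB11 kB13

theorem cg_C (B : Cfsg.Agent.H940.Eng.Base) (hx : ∀ p : Fin 1782, (ψ x p : ℕ) = lk 11 p6 p) : CG 2 x :=
  cg_of_chk B hx (by decide) rfl kC11 kC13

/-- the centralizer of the automorphic image -/
theorem card_cent_aut (α : MulAut Suz) (r : Suz) : Nat.card (centralizer ({α r} : Set Suz)) =
    Nat.card (centralizer ({r} : Set Suz)) := by
  refine (Nat.card_congr (Equiv.ofBijective (fun z : centralizer ({r} : Set Suz) =>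
    (⟨α z, ?_⟩ : centralizer ({α r} : Set Suz))) ⟨?_, ?_⟩)).symm
  · rw [mem_centralizer_singleton_iff, ← map_mul, ← map_mul, mem_centralizer_singleton_iff.1 z.2]
  · intro a b hab
    have h1 : α (a : Suz) = α b := congrArg (fun z : centralizer ({α r} : Set Suz) => (z : Suz)) hab
    exact Subtype.ext (α.injective h1)
  · rintro ⟨z, hz⟩
    obtain ⟨y, rfl⟩ := α.surjective z
    refine ⟨⟨y, ?_⟩, rfl⟩
    rw [mem_centralizer_singleton_iff] at hz ⊢
    exact α.injective (by rw [map_mul, map_mul]; exact hz)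

theorem card_y0 : Nat.card (centralizer ({(y0 : Suz)} : Set Suz)) = 9797760 := by
  have := fin
  have hC := (centralizer ({(y0 : Suz)} : Set Suz)).card_mul_index
  rw [H812.FullSuz.index_y0, card_Suz] at hC
  omega

/-- the centralizer bound from the list -/
theorem cent_le {i : ℕ} {y : ℕ × ℕ × List ℕ} (hi : D[i]? = some y) {r : Suz}
    (h : ∀ p : Fin 1782, (ψ r p : ℕ) = lk 11 y.1 p) : Nat.card (centralizer ({r} : Set Suz)) ≤ y.2.1 + 1 := by
  have h1 := cent_A_le (List.mem_of_getElem? hi) h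
  rw [← card_inf]
  exact (card_le_of_le (inf_le_inf_right _ N_le_A)).trans h1

/-- **elements of order 3** -/
theorem cg_three (B : Cfsg.Agent.H940.Eng.Base) {g : Suz} (hg : orderOf g = 3) : (∃ α : MulAut Suz, g = α y0) ∨ CG 2 g := by
  have hT : tst 3 [4, 6, 36] = true := by decide
  obtain ⟨i, y, hi, hy, r, α, hr, rfl⟩ := idx_of hg _ hT
  simp only [List.mem_cons, List.not_mem_nil, or_false] at hi
  rcases hi with rfl | rfl | rfl
  · right
    have e : y.1 = p4 := by
      have := Option.some.inj (hy.symm.trans (show D[4]? = some (p4, _, _) from rfl))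
      rw [this]
    rw [e] at hr
    exact (cg_B B hr).congr α
  · right
    have e : y.1 = p6 := by
      have := Option.some.inj (hy.symm.trans (show D[6]? = some (p6, _, _) from rfl))
      rw [this]
    rw [e] at hr
    exact (cg_C B hr).congr α
  · left
    obtain ⟨j, z, hj, hz, r', β, hr', hb⟩ := idx_of (g := y0) CpAutSuz.Local.orderOf_y0 _ hT
    have hc := card_cent_aut β r'
    rw [← hb, card_y0] at hc
    have hle := cent_le hz hr'
    simp only [List.mem_cons, List.not_mem_nil, or_false] at hj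
    rcases hj with rfl | rfl | rfl
    · exfalso
      have e : z.2.1 = 69983 := by
        have := Option.some.inj (hz.symm.trans (show D[4]? = some (p4, 69983, _) from rfl))
        rw [this]
      omega
    · exfalso
      have e : z.2.1 = 6479 := by
        have := Option.some.inj (hz.symm.trans (show D[6]? = some (p6, 6479, _) from rfl))
        rw [this]
      omega
    · have e : z = y := Option.some.inj (hz.symm.trans hy)
      have e2 : r' = r := by
        apply ψ_injective
        ext p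
        rw [hr', hr, e]
      refine ⟨α * β⁻¹, ?_⟩
      rw [hb, e2, MulAut.mul_apply, MulAut.inv_apply_self]

end Cfsg.Agent.H257.RG.SuzF
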