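import Cfsg.Agent.H257.RG.SuzCls

/-!
# S3509, row `Suz`: covers by three elements (helper257)

* `no_237` : there are no commuting elements of orders 2, 3, 7 in `Suz : 2`;
* `red_235` : a cover by elements of orders 2, 3, 5 gives a cover by the first two.
-/

set_option autoImplicit false
set_option maxRecDepth 1000000
set_option exponentiation.threshold 5000

namespace Cfsg.Agent.H257.RG.SuzF

open Subgroup MulAction Cfsg.Agent.H257.RG Cfsg.Agent.H257.OZ Cfsg.Agent.H257.OZ.SuzF
open Cfsg Cfsg.Spor Cfsg.Agent.H123.Cls Cfsg.Agent.H123.Cls.SuzDat Cfsg.Agent.Lib.BitNet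
open Cfsg.Agent.H763.Ore.SuzModel (A N A_conj card_A card_N N_le_A T_mem_A T_notMem)
open Cfsg.Agent.OddHalf.Table.SuzRep (ψ ψ_val ψ_injective)
open Cfsg.Agent.SporadicRecognition.SuzOrder (el card_Suz)
open Cfsg.Agent.KFacts.SuzRho (rho rho_el rho_sq)
open Equiv (Perm)

/-! ### the element of order 15 -/

/-- an element of order 15 commuting with `ρ` -/
noncomputable def r15 : Suz := el ([4, 0].map gn) * el ([3, 1].map gn) * (el ([4, 0].map gn))⁻¹ * (el ([3, 1].map gn))⁻¹

def wC : List ℕ := [2, 1, 3, 2, 1, 3, 2, 4, 3, 2, 3, 4, 2, 3, 1, 2, 3, 1, 2]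

/-- an element commuting with `ρ` and with `r15 ^ 10` -/
noncomputable def c15 : Suz := el (wC.map gn)

theorem gn_inv' (k : ℕ) : (PresentedGroup.of (gn k) : Suz)⁻¹ = PresentedGroup.of (gn k) := by
  have h := Cfsg.Agent.H867.Gen.Suz.sq_gen (gn k)
  have h1 : el [gn k] = PresentedGroup.of (gn k) := by simp [el]
  rw [h1] at h
  exact inv_eq_of_mul_eq_one_left h

theorem el_rev' (l : List ℕ) : el ((l.reverse).map gn) = (el (l.map gn))⁻¹ := by
  induction l with
  | nil => simp [el]
  | cons a l ih =>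
    have e1 : el ((a :: l).map gn) = PresentedGroup.of (gn a) * el (l.map gn) := by
      simp only [el, List.map_cons, List.prod_cons]
    have e2 : el (((a :: l).reverse).map gn) = el ((l.reverse).map gn) * PresentedGroup.of (gn a) := by
      simp only [el, List.reverse_cons, List.map_append, List.prod_append, List.map_cons, List.map_nil, List.prod_cons,
        List.prod_nil, mul_one]
    rw [e1, e2, ih, mul_inv_rev, gn_inv']

theorem r15_tab (p : Fin 1782) : (ψ r15 p : ℕ) = lk 11 p13 p := comm_tab cm13 p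

theorem rho_fix {l : List ℕ} (h : ∀ k ∈ l, k < 5) : rho (el (l.map gn)) = el (l.map gn) := by
  rw [rho_el]
  congr 1
  rw [List.map_map]
  refine List.map_congr_left fun k hk => ?_
  have := h k hk
  interval_cases k <;> rfl

theorem rho_r15 : rho r15 = r15 := by
  unfold r15
  rw [map_mul, map_mul, map_mul, map_inv, map_inv, rho_fix (l := [4, 0]) (by decide), rho_fix (l := [3, 1]) (by decide)]

theorem rho_c15 : rho c15 = c15 := rho_fix (by decide)

theorem chkC10 : allN (fun p => Nat.beq (evw 11 gens wC (it 11 p13 10 p)) (it 11 p13 10 (evw 11 gens wC p))) 1782 = true := by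
  decide +kernel

theorem chkD : allN (fun p => Nat.beq (it 11 p13 6 (evw 11 gens wC (it 11 p13 6 (evw 11 gens wC.reverse
    (it 11 p13 6 (evw 11 gens wC (it 11 p13 6 (evw 11 gens wC.reverse p)))))))) (it 11 p13 5 p)) 1782 = true := by
  decide +kernel

theorem c15_comm : c15 * r15 ^ 10 = r15 ^ 10 * c15 := by
  apply ψ_injective
  rw [map_mul, map_mul, map_pow]
  ext p
  rw [Equiv.Perm.mul_apply, Equiv.Perm.mul_apply, c15, ev_tab wC (by decide), pow_tab r15_tab, pow_tab r15_tab,
    ev_tab wC (by decide)]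
  exact Nat.eq_of_beq_eq_true ((allN_iff _ _).1 chkC10 p p.2)

theorem c15_rel : (r15 ^ 6 * c15 * r15 ^ 6 * c15⁻¹) ^ 2 = r15 ^ 5 := by
  apply ψ_injective
  have hinv : c15⁻¹ = el ((wC.reverse).map gn) := by rw [c15, el_rev']
  rw [pow_two, hinv]
  simp only [map_mul, map_pow]
  ext p
  simp only [Equiv.Perm.mul_apply]
  rw [c15]
  simp only [pow_tab r15_tab, ev_tab wC (by decide), ev_tab wC.reverse (by decide)]
  exact Nat.eq_of_beq_eq_true ((allN_iff _ _).1 chkD p p.2)

theorem dvd_of_idx {i : ℕ} {x : ℕ × ℕ × List ℕ} {y : ℕ × ℕ × ℕ} (hx : D[i]? = some x) (hy : Y[i]? = some y) {r : Suz}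
    (hr : ∀ p : Fin 1782, (ψ r p : ℕ) = lk 11 x.1 p) : y.2.1 ∣ orderOf r ∧ orderOf r ∣ y.2.2 := by
  have hz : (x, y) ∈ D.zip Y := List.mem_iff_getElem?.2 ⟨i, List.getElem?_zip_eq_some.2 ⟨hx, hy⟩⟩
  have hc := List.all_eq_true.1 chkA _ hz
  unfold chkY at hc
  simp only [Bool.and_eq_true, Bool.or_eq_true] at hc
  obtain ⟨c1, c2, c3, c4, c5⟩ := hc
  have d1 : y.1 < 1782 := by simpa [Nat.blt_eq] using c1
  have d2 : 0 < y.2.1 := by simpa [Nat.blt_eq] using c2
  have ho2 : orderOf (ψ r) = orderOf r := orderOf_injective ψ ψ_injective r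
  rw [← ho2]
  refine ⟨dvd_order hr ⟨y.1, d1⟩ d2 (Nat.eq_of_beq_eq_true c3) c4, ?_⟩
  rcases c5 with c5 | c5
  · rw [Nat.eq_of_beq_eq_true c5]
    exact dvd_zero _
  · refine orderOf_dvd_of_pow_eq_one ?_
    ext p
    rw [pow_tab hr, Equiv.Perm.one_apply]
    exact Nat.eq_of_beq_eq_true ((allN_iff _ _).1 c5 p p.2)

theorem order_r15 : orderOf r15 = 15 := by
  have h := dvd_of_idx (i := 13) (y := (4, 15, 15)) (show D[13]? = some (p13, 29, _) from rfl) rfl r15_tab
  exact Nat.dvd_antisymm h.2 h.1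

/-- automorphisms commuting with an inner automorphism -/
theorem conj_inj : Function.Injective (MulAut.conj : Suz →* MulAut Suz) :=
  Cfsg.Agent.H147.Gen.conj_inj Cfsg.Agent.H867.Gen.Suz.center_suz

theorem order_conj (g : Suz) : orderOf (MulAut.conj g) = orderOf g := orderOf_injective _ conj_inj g

theorem mem_cent_iff {η : MulAut Suz} {r : Suz} : η ∈ centralizer ({MulAut.conj r} : Set (MulAut Suz)) ↔ η r = r := by
  rw [mem_centralizer_singleton_iff, ← mul_inv_eq_iff_eq_mul, Cfsg.Agent.H147.Gen.aut_conj]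
  exact ⟨fun h => conj_inj h, fun h => by rw [h]⟩

/-- the centralizer of an element of order `n` in `Suz : 2`, an involution in it -/
theorem two_dvd {r : Suz} {n : ℕ} (ho : orderOf r = n) (hn : Odd n) {η : MulAut Suz} (h2 : η * η = 1) (h1 : η ≠ 1)
    (h : η r = r) : 2 * n ∣ Nat.card ↥(centralizer ({MulAut.conj r} : Set (MulAut Suz))) := by
  have := finAut
  have hη : η ∈ centralizer ({MulAut.conj r} : Set (MulAut Suz)) := mem_cent_iff.2 h
  have hr : MulAut.conj r ∈ centralizer ({MulAut.conj r} : Set (MulAut Suz)) := mem_centralizer_singleton_iff.2 rfl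
  have o2 : orderOf η = 2 := orderOf_eq_prime (by rw [pow_two, h2]) h1
  have e1 : 2 ∣ Nat.card ↥(centralizer ({MulAut.conj r} : Set (MulAut Suz))) := by
    rw [← o2]
    have : orderOf (⟨η, hη⟩ : ↥(centralizer ({MulAut.conj r} : Set (MulAut Suz)))) = orderOf η := by
      rw [← Subgroup.orderOf_coe]
    rw [← this]
    exact orderOf_dvd_natCard _
  have e2 : n ∣ Nat.card ↥(centralizer ({MulAut.conj r} : Set (MulAut Suz))) := by
    rw [← ho, ← order_conj]
    have : orderOf (⟨MulAut.conj r, hr⟩ : ↥(centralizer ({MulAut.conj r} : Set (MulAut Suz)))) =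
        orderOf (MulAut.conj r) := by
      rw [← Subgroup.orderOf_coe]
    rw [← this]
    exact orderOf_dvd_natCard _
  exact Nat.Coprime.mul_dvd_of_dvd_of_dvd (Nat.coprime_two_left.2 hn) e1 e2

theorem card_le {i : ℕ} {y : ℕ × ℕ × List ℕ} (hi : D[i]? = some y) {r : Suz}
    (h : ∀ p : Fin 1782, (ψ r p : ℕ) = lk 11 y.1 p) :
    Nat.card ↥(centralizer ({MulAut.conj r} : Set (MulAut Suz))) ≤ y.2.1 + 1 := by
  rw [card_cent]
  exact cent_A_le (List.mem_of_getElem? hi) h

/-- **order 21** -/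
theorem no_21 {g : Suz} (hg : orderOf g = 21) {η : MulAut Suz} (h2 : η * η = 1) (h1 : η ≠ 1) (h : η g = g) : False := by
  obtain ⟨i, y, hi, hy, r, α, hr, rfl⟩ := idx_of hg [17] (by decide)
  rw [List.mem_singleton] at hi
  subst hi
  have hle := card_le hy hr
  have e : y.2.1 = 20 := by
    have := Option.some.inj (hy.symm.trans (show D[17]? = some (p17, 20, _) from rfl))
    rw [this]
  have ho : orderOf r = 21 := by rw [← hg, MulEquiv.orderOf_eq]
  have hd := two_dvd (η := α⁻¹ * η * α) ho (by decide) (by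
    calc α⁻¹ * η * α * (α⁻¹ * η * α) = α⁻¹ * (η * η) * α := by group
      _ = 1 := by rw [h2]; group) (by
    intro h3
    apply h1
    calc η = α * (α⁻¹ * η * α) * α⁻¹ := by group
      _ = 1 := by rw [h3]; group) (by
    rw [MulAut.mul_apply, MulAut.mul_apply, h, MulAut.inv_apply_self])
  have := finAut
  have hpos : 0 < Nat.card ↥(centralizer ({MulAut.conj r} : Set (MulAut Suz))) := Nat.card_pos
  have := Nat.le_of_dvd hpos hd
  omega

/-- **order 15** -/
theorem eq_15 {g : Suz} (hg : orderOf g = 15) {η : MulAut Suz} (h2 : η * η = 1) (h1 : η ≠ 1) (h : η g = g) :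
    ∃ α : MulAut Suz, g = α r15 ∧ η = α * rho * α⁻¹ := by
  have := finAut
  obtain ⟨i, y, hi, hy, r, α, hr, rfl⟩ := idx_of hg [13, 18] (by decide)
  have ho : orderOf r = 15 := by rw [← hg, MulEquiv.orderOf_eq]
  set ζ : MulAut Suz := α⁻¹ * η * α with hζ
  have z2 : ζ * ζ = 1 := by
    calc α⁻¹ * η * α * (α⁻¹ * η * α) = α⁻¹ * (η * η) * α := by group
      _ = 1 := by rw [h2]; group
  have z1 : ζ ≠ 1 := by
    intro h3
    apply h1
    calc η = α * (α⁻¹ * η * α) * α⁻¹ := by group
      _ = 1 := by rw [← hζ, h3]; group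
  have zr : ζ r = r := by
    rw [hζ, MulAut.mul_apply, MulAut.mul_apply, h, MulAut.inv_apply_self]
  have hd := two_dvd ho (by decide) z2 z1 zr
  have hpos : 0 < Nat.card ↥(centralizer ({MulAut.conj r} : Set (MulAut Suz))) := Nat.card_pos
  simp only [List.mem_cons, List.not_mem_nil, or_false] at hi
  rcases hi with rfl | rfl
  · have hle := card_le hy hr
    have e := Option.some.inj (hy.symm.trans (show D[13]? = some (p13, 29, _) from rfl))
    rw [e] at hle hr
    have hr' : r = r15 := by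
      apply ψ_injective
      ext p
      rw [hr, r15_tab]
    subst hr'
    refine ⟨α, rfl, ?_⟩
    set C := centralizer ({MulAut.conj r15} : Set (MulAut Suz)) with hC
    have hcC : MulAut.conj r15 ∈ C := mem_centralizer_singleton_iff.2 rfl
    let c : C := ⟨MulAut.conj r15, hcC⟩
    have oc : orderOf c = 15 := by
      rw [← Subgroup.orderOf_coe]
      show orderOf (MulAut.conj r15) = 15
      rw [order_conj, order_r15]
    have hρC : rho ∈ C := mem_cent_iff.2 rho_r15
    have hzC : ζ ∈ C := mem_cent_iff.2 zr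
    have hodd : ∀ x ∈ zpowers c, x * x = 1 → x = 1 := by
      intro x hx hxx
      have h3 : orderOf x ∣ 15 := by rw [← oc]; exact orderOf_dvd_of_mem_zpowers hx
      have h4 : orderOf x ∣ 2 := orderOf_dvd_of_pow_eq_one (by rw [pow_two, hxx])
      have h5 : orderOf x ∣ 1 := by
        have := Nat.dvd_gcd h3 h4
        exact this
      exact orderOf_eq_one_iff.1 (Nat.dvd_one.1 h5)
    have hne : (⟨rho, hρC⟩ : C) ∉ zpowers c := by
      intro h3
      have h4 := hodd _ h3 (Subtype.ext rho_sq)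
      have h5 : (rho : MulAut Suz) = 1 := congrArg Subtype.val h4
      have h6 : rho (el [.f]) = el [.g] := rho_el [.f]
      rw [h5, MulAut.one_apply] at h6
      have h7 : el ([.f] ++ [.g]) ≠ (1 : Suz) :=
        Cfsg.Agent.H867.Gen.Suz.ne_one (w := [.f] ++ [.g]) (p := 0) (q := 1) (by decide +kernel) (by norm_num)
      apply h7
      rw [Cfsg.Agent.SuzThree.Basic.el_append, ← h6]
      exact Cfsg.Agent.H867.Gen.Suz.sq_gen .f
    have hidx : (zpowers c).index = 2 := by
      have h3 := (zpowers c).card_mul_index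
      rw [Nat.card_zpowers, oc] at h3
      have h4 : (zpowers c).index ≠ 1 := fun h => hne (by rw [index_eq_one.1 h]; exact mem_top _)
      have h5 : (zpowers c).index ≠ 0 := index_ne_zero_of_finite
      have h6 : Nat.card C ≤ 30 := hle
      omega
    have hz' : (⟨ζ, hzC⟩ : C) ∉ zpowers c := fun h3 => z1 (congrArg Subtype.val (hodd _ h3 (Subtype.ext z2)))
    have hmul : (⟨ζ, hzC⟩ : C) * ⟨rho, hρC⟩ ∈ zpowers c := by
      rw [mul_mem_iff_of_index_two hidx]
      exact ⟨fun h => absurd h hz', fun h => absurd h hne⟩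
    have hk : (⟨ζ, hzC⟩ : C) * ⟨rho, hρC⟩ = 1 := by
      refine hodd _ hmul ?_
      -- it commutes with `ρ`
      obtain ⟨k, hk⟩ := mem_zpowers_iff.1 hmul
      have h3 : (rho : MulAut Suz) * (MulAut.conj r15) = MulAut.conj r15 * rho := (mem_centralizer_singleton_iff.1 hρC)
      have h4 : ((⟨ζ, hzC⟩ : C) * ⟨rho, hρC⟩ : C) * ⟨rho, hρC⟩ = ⟨rho, hρC⟩ * (⟨ζ, hzC⟩ * ⟨rho, hρC⟩) := by
        rw [← hk]
        have h5 : Commute c (⟨rho, hρC⟩ : C) := Subtype.ext h3.symm
        exact (h5.zpow_left k).eq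
      have h5 : (⟨rho, hρC⟩ : C) * ⟨rho, hρC⟩ = 1 := Subtype.ext rho_sq
      have h6 : (⟨ζ, hzC⟩ : C) * ⟨ζ, hzC⟩ = 1 := Subtype.ext z2
      generalize (⟨ζ, hzC⟩ : C) = a at h4 h6 ⊢
      generalize (⟨rho, hρC⟩ : C) = b at h4 h5 ⊢
      calc a * b * (a * b) = (a * b * b) * (b * (a * b)) * 1 := by
            rw [mul_assoc a b b, h5, mul_one, mul_one]
            calc a * b * (a * b) = a * (b * (a * b)) := by group
              _ = _ := rfl
        _ = a * (b * (a * b)) := by rw [mul_assoc a b b, h5, mul_one, mul_one]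
        _ = a * (a * b * b) := by rw [← h4]
        _ = (a * a) * (b * b) := by group
        _ = 1 := by rw [h5, h6, one_mul]
    have h7 : ζ * rho = 1 := congrArg Subtype.val hk
    have h8 : ζ = rho := by
      calc ζ = ζ * (rho * rho) := by rw [rho_sq, mul_one]
        _ = (ζ * rho) * rho := by group
        _ = rho := by rw [h7, one_mul]
    rw [← h8, hζ]
    group
  · exfalso
    have e := Option.some.inj (hy.symm.trans (show D[18]? = some (p18, 44, _) from rfl))
    have h18 : 18 < D.length := (List.getElem?_eq_some_iff.1 hy).1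
    rw [e] at hr
    have h3 : Nat.card ↥(A ⊓ centralizer {ψ r}) * (2 * 448345497600 / (44 + 1)) = 2 * 448345497600 :=
      card_mul (i := 18) h18 (r := ψ r) ⟨r, rfl⟩ hr
    rw [← card_cent] at h3
    have h5 : Nat.card ↥(centralizer ({MulAut.conj r} : Set (MulAut Suz))) = 45 := by
      norm_num at h3
      omega
    rw [h5] at hd
    omega

end Cfsg.Agent.H257.RG.SuzF
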