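import Cfsg.Agent.H257.RG.SuzGen
import Cfsg.Agent.H257.RG.SuzTrip
import Cfsg.Agent.H873.RG.Defs

/-!
# S3509 (regular cycles), the row `Suz` (helper257)

`row (B : Base) : RowX (fun S _ => Spor.IsoSuz S)`, `rc_suz`.
-/

set_option autoImplicit false
set_option maxRecDepth 100000

namespace Cfsg.Agent.H257.RG.SuzF

open Subgroup MulAction Cfsg.Agent.H257.RG Cfsg.Agent.H106.RC Cfsg.Agent.H345.RG Cfsg.Agent.H867.RC Cfsg.Agent.H147.Gen
open Cfsg.Spor (Suz)
open Cfsg.Agent.SuzThree.ThreeWr (y0)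
open Cfsg.Agent.SporadicRecognition.SuzOrder (el card_Suz)
open Cfsg.Agent.KFacts.SuzRho (rho rho_el rho_sq)

/-! ### five conjugates of the involutions -/

theorem ca_comm {x : MulAut Suz} {t : Suz} (h : orderOf (x t * t⁻¹) = 5) : CA 5 x :=
  Cfsg.Agent.H867.Gen.Comm.CA_of_comm (k := 2) (by norm_num) (Cfsg.Agent.H867.Gen.Suz.gen_five _ h) (by norm_num)

theorem ca_comm_conj {x : MulAut Suz} {t : Suz} (h : orderOf (x t * t⁻¹) = 5) (g : Suz) :
    CA 5 (MulAut.conj g * x * (MulAut.conj g)⁻¹) := by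
  apply ca_comm (t := g * t * g⁻¹)
  have e : (MulAut.conj g * x * (MulAut.conj g)⁻¹) (g * t * g⁻¹) * (g * t * g⁻¹)⁻¹ = g * (x t * t⁻¹) * g⁻¹ := by
    rw [← map_inv]
    simp only [MulAut.mul_apply, MulAut.conj_apply]
    group
  rw [e, ← MulAut.conj_apply, MulEquiv.orderOf_eq]
  exact h

theorem ca_two {x : MulAut Suz} (hx : x * x = 1) (hx1 : x ≠ 1) : CA 5 x := by
  by_cases hr : x ∈ (MulAut.conj : Suz →* MulAut Suz).range
  · obtain ⟨g, rfl⟩ := hr
    refine (Cfsg.Agent.H867.Gen.Suz.gen_two g ?_).ca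
    rw [← order_conj]
    exact orderOf_eq_prime (by rw [pow_two, hx]) hx1
  · rcases Cfsg.Agent.KFacts.SuzInvol.outer hx (fun s hs => hr ⟨s, hs.symm⟩) with ⟨g, h⟩ | ⟨g, h⟩
    · rw [h]
      exact ca_comm_conj Cfsg.Agent.H867.Gen.Suz.order_rho g
    · have h2 : x = MulAut.conj (g * (el [.e, .d])⁻¹) * Cfsg.Agent.KFacts.SuzRho.sigma *
          (MulAut.conj (g * (el [.e, .d])⁻¹))⁻¹ := by
        rw [h, Cfsg.Agent.KFacts.SuzInvol.sigma_eq, map_mul, map_inv]
        group
      rw [h2]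
      exact ca_comm_conj Cfsg.Agent.H867.Gen.Suz.order_sigma _

/-! ### fixed point ratios -/

section

variable {G Ω : Type*} [Group G] [Finite G] [Finite Ω] [Nonempty Ω] [MulAction G Ω] {N : Subgroup G}

/-- elements of odd prime order are in `N` -/
theorem mem_of_odd (hE : Env G Ω N) (e : N ≃* Suz) {x : G} {p : ℕ} (hp : p.Prime) (hp2 : p ≠ 2) (hx : x ^ p = 1)
    (hx1 : x ≠ 1) : ∃ s, x = inc e s ∧ s ^ p = 1 ∧ s ≠ 1 := by
  have := hE.norm
  have h1 : x ∈ N := by
    rw [mem_iff e hE.cent]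
    by_contra h
    have := Fact.mk hp
    have ho : orderOf (act e x) = p := orderOf_eq_prime (by rw [← map_pow, hx, map_one])
      (fun h => hx1 (act_inj e hE.cent (by rw [h, map_one])))
    have h2 := Cfsg.Agent.H867.Gen.Suz.out_two Cfsg.Agent.KFacts.SuzOut.index_eq (act e x) (by rw [ho]; exact hp) h
    omega
  obtain ⟨s, hs⟩ := exists_inc e h1
  refine ⟨s, hs.symm, inc_inj e (by rw [map_pow, hs, hx, map_one]), ?_⟩
  rintro rfl
  rw [map_one] at hs
  exact hx1 hs.symm

/-- the bounds -/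
def bb (p : ℕ) : ℚ := if p = 2 then 602 / 1000 else if p = 3 then 253 / 1000 else if p = 5 then 377 / 1000 else 1 / 4

theorem bb_le {p : ℕ} (h : p ≠ 2) : bb p ≤ 377 / 1000 := by
  unfold bb
  rw [if_neg h]
  split_ifs <;> norm_num

theorem bb_le' (p : ℕ) : bb p ≤ 602 / 1000 := by
  unfold bb
  split_ifs <;> norm_num

theorem fpr_le (B : Cfsg.Agent.H940.Eng.Base) (hE : Env G Ω N) (e : N ≃* Suz) {x : G} {p : ℕ} (hp : p.Prime) (hx : x ^ p = 1)
    (hx1 : x ≠ 1) (h3 : ¬ ∃ α : MulAut Suz, x = inc e (α y0)) : fpr Ω x ≤ bb p := by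
  have := Cfsg.Agent.H257.OZ.SuzF.fin
  have hN := hE.norm
  have hB : Big Ω N 336 := big_of_min hE e index_ge
  by_cases hp2 : p = 2
  · subst hp2
    have h1 : CA 5 (act e x) := ca_two (by rw [← map_mul, ← pow_two, hx, map_one])
      (fun h => hx1 (act_inj e hE.cent (by rw [h, map_one])))
    refine (fpr_CA hE e (by norm_num) hB hp hx hx1 (k := 5) (by norm_num) h1).trans ?_
    norm_num [bb]
  obtain ⟨s, rfl, hs, hs1⟩ := mem_of_odd hE e hp hp2 hx hx1
  have := Fact.mk hp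
  have ho : orderOf s = p := orderOf_eq_prime hs hs1
  rcases primes hp hs hs1 with rfl | rfl | rfl | rfl | rfl | rfl
  · exact absurd rfl hp2
  · have h1 : CG 2 s := by
      rcases cg_three B ho with ⟨α, h⟩ | h
      · exact absurd ⟨α, by rw [h]⟩ h3
      · exact h
    refine (fpr_CG hE e (by norm_num) hB hp hs hs1 (k := 2) (by norm_num) h1).trans ?_
    norm_num [bb]
  · refine (fpr_CG hE e (by norm_num) hB hp hs hs1 (k := 2) (by norm_num) (Cfsg.Agent.H867.Gen.Suz.gen_five s ho)).trans ?_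
    norm_num [bb]
  · have h1 : Nat.card ↥(centralizer ({s} : Set Suz)) ≤ 84 := by
      rw [← H904.SylOne.centralizer_zpowers_eq, (H212.SuzFive.data7 (by rw [Nat.card_zpowers, ho])).1]
    refine (fpr_cent hE e (by norm_num) hB h1).trans ?_
    norm_num [bb]
  · have h1 : Nat.card ↥(centralizer ({s} : Set Suz)) ≤ 11 := by
      rw [← H904.SylOne.centralizer_zpowers_eq, (H212.SuzFive.data11 (by rw [Nat.card_zpowers, ho])).1]
    refine (fpr_cent hE e (by norm_num) hB h1).trans ?_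
    norm_num [bb]
  · have h1 : Nat.card ↥(centralizer ({s} : Set Suz)) ≤ 13 := by
      rw [← H904.SylOne.centralizer_zpowers_eq]
      exact Nat.le_of_dvd (by norm_num) (loc13.2.2.2 _ (by rw [Nat.card_zpowers, ho])).1
    refine (fpr_cent hE e (by norm_num) hB h1).trans ?_
    norm_num [bb]

/-! ### pairs -/

/-- elements of the centralizer of `y0` -/
theorem exists_cent {l : ℕ} (hl : l.Prime) (hd : l ∣ 9797760) : ∃ t : Suz, t * y0 = y0 * t ∧ t ^ l = 1 ∧ t ≠ 1 := by
  have := Cfsg.Agent.H257.OZ.SuzF.fin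
  have := Fact.mk hl
  obtain ⟨t, ht⟩ := exists_prime_orderOf_dvd_card' (G := centralizer ({(y0 : Suz)} : Set Suz)) l (by rw [card_y0]; exact hd)
  refine ⟨t, mem_centralizer_singleton_iff.1 t.2, ?_, ?_⟩
  · rw [← Subgroup.coe_pow, ← ht, pow_orderOf_eq_one, Subgroup.coe_one]
  · intro h
    have h1 : t = 1 := Subtype.ext h
    rw [h1, orderOf_one] at ht
    exact hl.one_lt.ne ht

theorem y0_three : (y0 : Suz) ^ 3 = 1 := by
  rw [← CpAutSuz.Local.orderOf_y0, pow_orderOf_eq_one]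

theorem y0_ne : (y0 : Suz) ≠ 1 := by
  intro h
  have h1 := CpAutSuz.Local.orderOf_y0
  rw [h, orderOf_one] at h1
  norm_num at h1

theorem pair_y0 (hE : Env G Ω N) (e : N ≃* Suz) {y : G} {q : ℕ} (hq : q.Prime) (hq3 : q ≠ 3) (hy : y ^ q = 1) (hy1 : y ≠ 1)
    (h : y * inc e y0 = inc e y0 * y) (hc : ∀ ω : Ω, inc e y0 • ω = ω ∨ y • ω = ω) : False := by
  have := Cfsg.Agent.H257.OZ.SuzF.fin
  have hN := hE.norm
  have := Cfsg.Agent.LThreeCo1Twelve.Gam.simple
  obtain ⟨f, hs, hk, -, -, hp⟩ := cover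
  have hx1 : inc e y0 ≠ 1 := fun h => y0_ne (inc_inj e (by rw [h, map_one]))
  rcases mem_or_cent e hp (normal_or f hs hk) h with h1 | h1
  · exact rulePair hE hx1 hc h1
  obtain ⟨t7, c7, p7, n7⟩ := exists_cent (l := 7) (by norm_num) (by norm_num)
  obtain ⟨t5, c5, p5, n5⟩ := exists_cent (l := 5) (by norm_num) (by norm_num)
  by_cases hq2 : q = 2
  · subst hq2
    have ho := order_prod (x := (y0 : Suz)) (y := t7) Nat.prime_three (by norm_num : Nat.Prime 7) (by norm_num) y0_three y0_ne p7 n7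
      c7.symm
    refine no_21 (g := y0 * t7) ho (η := act e y) (by rw [← map_mul, ← pow_two, hy, map_one])
      (fun h => hy1 (act_inj e hE.cent (by rw [h, map_one]))) ?_
    apply inc_inj e
    rw [inc_act, map_mul]
    have h2 := h1 t7 c7
    calc y * (inc e y0 * inc e t7) * y⁻¹ = (y * inc e y0) * inc e t7 * y⁻¹ := by group
      _ = inc e y0 * (y * inc e t7) * y⁻¹ := by rw [h]; group
      _ = inc e y0 * inc e t7 := by rw [← h2]; group
  · obtain ⟨g, rfl, hg, hg1⟩ := mem_of_odd hE e hq hq2 hy hy1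
    have hcm : ∀ c : Suz, c * y0 = y0 * c → c * g = g * c := fun c hc =>
      inc_inj e (by rw [map_mul, map_mul]; exact h1 c hc)
    have g7 := hcm t7 c7
    have g5 := hcm t5 c5
    rcases primes hq hg hg1 with rfl | rfl | rfl | rfl | rfl | rfl
    · exact hq2 rfl
    · exact hq3 rfl
    · have := pairs (by norm_num : Nat.Prime 5) (by norm_num : Nat.Prime 7) (by norm_num) (by norm_num) hg hg1 p7 n7 g7.symm
      omega
    · have := pairs (by norm_num : Nat.Prime 5) (by norm_num : Nat.Prime 7) (by norm_num) (by norm_num) p5 n5 hg hg1 g5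
      omega
    · have := pairs (by norm_num : Nat.Prime 5) (by norm_num : Nat.Prime 11) (by norm_num) (by norm_num) p5 n5 hg hg1 g5
      omega
    · have := pairs (by norm_num : Nat.Prime 5) (by norm_num : Nat.Prime 13) (by norm_num) (by norm_num) p5 n5 hg hg1 g5
      omega

theorem inc_trans (e : N ≃* Suz) (α : MulAut Suz) (s : Suz) : inc (e.trans (α⁻¹ : MulAut Suz)) s = inc e (α s) := by
  rfl

theorem pair_A (hE : Env G Ω N) (e : N ≃* Suz) {x y : G} {q : ℕ} (hq : q.Prime) (hq3 : q ≠ 3) (hy : y ^ q = 1) (hy1 : y ≠ 1)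
    (h : y * x = x * y) (hx : ∃ α : MulAut Suz, x = inc e (α y0)) (hc : ∀ ω : Ω, x • ω = ω ∨ y • ω = ω) : False := by
  obtain ⟨α, hα⟩ := hx
  rw [← inc_trans] at hα
  subst hα
  exact pair_y0 hE _ hq hq3 hy hy1 h hc

theorem order_three_of_A (e : N ≃* Suz) {x : G} {p : ℕ} (hp : p.Prime) (hx : x ^ p = 1) (h : ∃ α : MulAut Suz, x = inc e (α y0)) :
    p = 3 := by
  obtain ⟨α, rfl⟩ := h
  have h1 : orderOf (inc e (α y0)) = 3 := by
    rw [orderOf_injective _ (inc_inj e), MulEquiv.orderOf_eq, CpAutSuz.Local.orderOf_y0]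
  have h2 := orderOf_dvd_of_pow_eq_one hx
  rw [h1] at h2
  exact ((Nat.prime_dvd_prime_iff_eq Nat.prime_three hp).1 h2).symm

/-- **no cover by two elements** -/
theorem no_pair (B : Cfsg.Agent.H940.Eng.Base) (hE : Env G Ω N) (e : N ≃* Suz) {x y : G} {p q : ℕ} (hp : p.Prime) (hq : q.Prime)
    (hpq : p ≠ q) (hx : x ^ p = 1) (hx1 : x ≠ 1) (hy : y ^ q = 1) (hy1 : y ≠ 1) (h : x * y = y * x)
    (hc : ∀ ω : Ω, x • ω = ω ∨ y • ω = ω) : False := by
  by_cases hxA : ∃ α : MulAut Suz, x = inc e (α y0)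
  · have := order_three_of_A e hp hx hxA
    exact pair_A hE e hq (by omega) hy hy1 h.symm hxA hc
  by_cases hyA : ∃ α : MulAut Suz, y = inc e (α y0)
  · have := order_three_of_A e hq hy hyA
    exact pair_A hE e hp (by omega) hx hx1 h hyA fun ω => (hc ω).symm
  have h1 := fpr_le B hE e hp hx hx1 hxA
  have h2 := fpr_le B hE e hq hy hy1 hyA
  have hcov : Cov Ω ![x, y] := by
    intro ω
    rcases hc ω with h | h
    · exact ⟨0, h⟩
    · exact ⟨1, h⟩
  have h3 := one_le_sum hcov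
  rw [Fin.sum_univ_two] at h3
  have h4 : (1 : ℚ) ≤ fpr Ω x + fpr Ω y := h3
  by_cases hp2 : p = 2
  · have h5 := bb_le (p := q) (by omega)
    have h6 := bb_le' p
    linarith
  · have h5 := bb_le hp2
    have h6 := bb_le' q
    linarith

/-! ### triples -/

/-- **no commuting elements of orders 2, 3, 7** -/
theorem no_237 (hE : Env G Ω N) (e : N ≃* Suz) {a b c : G} (ha : a ^ 2 = 1) (ha1 : a ≠ 1) (hb : b ^ 3 = 1) (hb1 : b ≠ 1)
    (hc : c ^ 7 = 1) (hc1 : c ≠ 1) (hab : a * b = b * a) (hac : a * c = c * a) (hbc : b * c = c * b) : False := by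
  have hN := hE.norm
  obtain ⟨s, rfl, hs, hs1⟩ := mem_of_odd hE e Nat.prime_three (by norm_num) hb hb1
  obtain ⟨t, rfl, ht, ht1⟩ := mem_of_odd hE e (by norm_num : Nat.Prime 7) (by norm_num) hc hc1
  have hst : s * t = t * s := inc_inj e (by rw [map_mul, map_mul]; exact hbc)
  have ho := order_prod Nat.prime_three (by norm_num : Nat.Prime 7) (by norm_num) hs hs1 ht ht1 hst
  refine no_21 (g := s * t) ho (η := act e a) (by rw [← map_mul, ← pow_two, ha, map_one])
    (fun h => ha1 (act_inj e hE.cent (by rw [h, map_one]))) ?_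
  apply inc_inj e
  rw [inc_act, map_mul]
  calc a * (inc e s * inc e t) * a⁻¹ = (a * inc e s) * inc e t * a⁻¹ := by group
    _ = inc e s * (a * inc e t) * a⁻¹ := by rw [hab]; group
    _ = inc e s * inc e t := by rw [hac]; group

/-- **a cover by elements of orders 2, 3, 5** -/
theorem red_235 (hE : Env G Ω N) (e : N ≃* Suz) {a b c : G} (ha : a ^ 2 = 1) (ha1 : a ≠ 1) (hb : b ^ 3 = 1) (hb1 : b ≠ 1)
    (hc : c ^ 5 = 1) (hc1 : c ≠ 1) (hab : a * b = b * a) (hac : a * c = c * a) (hbc : b * c = c * b)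
    (hcov : ∀ ω : Ω, a • ω = ω ∨ b • ω = ω ∨ c • ω = ω) : ∀ ω : Ω, a • ω = ω ∨ b • ω = ω := by
  have hN := hE.norm
  obtain ⟨s, rfl, hs, hs1⟩ := mem_of_odd hE e Nat.prime_three (by norm_num) hb hb1
  obtain ⟨t, rfl, ht, ht1⟩ := mem_of_odd hE e (by norm_num : Nat.Prime 5) (by norm_num) hc hc1
  have hst : s * t = t * s := inc_inj e (by rw [map_mul, map_mul]; exact hbc)
  have ho := order_prod Nat.prime_three (by norm_num : Nat.Prime 5) (by norm_num) hs hs1 ht ht1 hst
  obtain ⟨α, h1, h2⟩ := eq_15 (g := s * t) ho (η := act e a) (by rw [← map_mul, ← pow_two, ha, map_one])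
    (fun h => ha1 (act_inj e hE.cent (by rw [h, map_one]))) (by
      apply inc_inj e
      rw [inc_act, map_mul]
      calc a * (inc e s * inc e t) * a⁻¹ = (a * inc e s) * inc e t * a⁻¹ := by group
        _ = inc e s * (a * inc e t) * a⁻¹ := by rw [hab]; group
        _ = inc e s * inc e t := by rw [hac]; group)
  have hcm : Commute s t := hst
  have s10 : s = α (r15 ^ 10) := by
    rw [map_pow, ← h1, hcm.mul_pow, show 10 = 3 * 3 + 1 from rfl, pow_succ, pow_mul, hs, one_pow, one_mul,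
      show 3 * 3 + 1 = 5 * 2 from rfl, pow_mul, ht, one_pow, mul_one]
  have t6 : t = α (r15 ^ 6) := by
    rw [map_pow, ← h1, hcm.mul_pow, show 6 = 3 * 2 from rfl, pow_mul, hs, one_pow, one_mul,
      show 3 * 2 = 5 + 1 from rfl, pow_succ, ht, one_mul]
  have s5 : s ^ 2 = α (r15 ^ 5) := by
    rw [map_pow, ← h1, hcm.mul_pow, ht, mul_one, show 5 = 3 + 2 from rfl, pow_add, hs, one_mul]
  -- the element `z`
  have hz1 : a * inc e (α c15) * a⁻¹ = inc e (α c15) := by
    rw [← inc_act, h2]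
    congr 1
    rw [MulAut.mul_apply, MulAut.mul_apply, MulAut.inv_apply_self, rho_c15]
  have hz2 : α c15 * s = s * α c15 := by
    rw [s10, ← map_mul, ← map_mul, c15_comm]
  have hz3 : (t * α c15 * t * (α c15)⁻¹) ^ 2 = s ^ 2 := by
    rw [s5, t6, ← c15_rel]
    simp only [map_pow, map_mul, map_inv]
  set z := inc e (α c15) with hz
  have hza : z⁻¹ * a = a * z⁻¹ := by
    have h3 : a * z = z * a := by
      calc a * z = a * z * a⁻¹ * a := by group
        _ = z * a := by rw [hz1]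
    calc z⁻¹ * a = z⁻¹ * (a * z) * z⁻¹ := by group
      _ = a * z⁻¹ := by rw [h3]; group
  have hzs : z⁻¹ * inc e s = inc e s * z⁻¹ := by
    have h3 : z * inc e s = inc e s * z := by rw [hz, ← map_mul, ← map_mul, hz2]
    calc z⁻¹ * inc e s = z⁻¹ * (inc e s * z) * z⁻¹ := by group
      _ = inc e s * z⁻¹ := by rw [← h3]; group
  intro ω
  by_contra hno
  push Not at hno
  obtain ⟨n1, n2⟩ := hno
  have f1 : inc e t • ω = ω := by
    rcases hcov ω with h | h | h
    · exact absurd h n1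
    · exact absurd h n2
    · exact h
  have f2 : (z * inc e t * z⁻¹) • ω = ω := by
    rcases hcov (z⁻¹ • ω) with h | h | h
    · exfalso
      apply n1
      rw [smul_smul, ← hza, mul_smul] at h
      exact smul_left_cancel _ h
    · exfalso
      apply n2
      rw [smul_smul, ← hzs, mul_smul] at h
      exact smul_left_cancel _ h
    · rw [mul_smul, mul_smul, h, smul_inv_smul]
  have f3 : inc e t * (z * inc e t * z⁻¹) ∈ stabilizer G ω := mul_mem (show inc e t ∈ stabilizer G ω from f1) f2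
  have f4 : (inc e t * (z * inc e t * z⁻¹)) ^ 2 = inc e s ^ 2 := by
    rw [← map_pow (inc e) s, ← hz3]
    simp only [map_pow, map_mul, map_inv, ← hz]
    congr 1
    group
  have f5 : inc e s ^ 2 ∈ stabilizer G ω := by rw [← f4]; exact pow_mem f3 2
  apply n2
  have f6 : inc e s = (inc e s ^ 2) ^ 2 := by
    rw [← pow_mul, show 2 * 2 = 3 + 1 from rfl, pow_succ, hb, one_mul]
  rw [f6]
  exact pow_mem f5 2

end

/-! ### the row -/

theorem noCov (B : Cfsg.Agent.H940.Eng.Base) : NoCov Suz := by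
  intro G _ _ Ω _ _ _ N hE e ι _ x r hx hc _
  classical
  have : Fintype ι := Fintype.ofFinite ι
  -- two members of odd order
  have hA : ∀ i j, i ≠ j → r i ≠ 2 → r j ≠ 2 →
      (r i = 3 ∧ (r j = 5 ∨ r j = 7)) ∨ (r j = 3 ∧ (r i = 5 ∨ r i = 7)) := by
    intro i j hij hi hj
    obtain ⟨s, hs, hs1, hs2⟩ := mem_of_odd hE e (hx.prime i) hi (hx.pow i) (hx.ne i)
    obtain ⟨t, ht, ht1, ht2⟩ := mem_of_odd hE e (hx.prime j) hj (hx.pow j) (hx.ne j)
    have hst : s * t = t * s := inc_inj e (by rw [map_mul, map_mul, ← hs, ← ht]; exact hx.comm i j)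
    rcases lt_trichotomy (r i) (r j) with h | h | h
    · exact Or.inl (pairs (hx.prime i) (hx.prime j) h hi hs1 hs2 ht1 ht2 hst)
    · exact absurd (hx.inj h) hij
    · exact Or.inr (pairs (hx.prime j) (hx.prime i) h hj ht1 ht2 hs1 hs2 hst.symm)
  have hne : ∀ i j, i ≠ j → r i ≠ r j := fun i j hij h => hij (hx.inj h)
  by_cases h3 : 2 < Fintype.card ι
  · obtain ⟨a, b, c, hab, hac, hbc⟩ := Fintype.two_lt_card_iff.1 h3
    have key : ∃ i2 i3 iq, r i2 = 2 ∧ r i3 = 3 ∧ (r iq = 5 ∨ r iq = 7) := by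
      by_cases ha : r a = 2
      · have hb : r b ≠ 2 := fun h => hne a b hab (by rw [ha, h])
        have hc : r c ≠ 2 := fun h => hne a c hac (by rw [ha, h])
        rcases hA b c hbc hb hc with ⟨h1, h2⟩ | ⟨h1, h2⟩
        · exact ⟨a, b, c, ha, h1, h2⟩
        · exact ⟨a, c, b, ha, h1, h2⟩
      by_cases hb : r b = 2
      · have hc : r c ≠ 2 := fun h => hne b c hbc (by rw [hb, h])
        rcases hA a c hac ha hc with ⟨h1, h2⟩ | ⟨h1, h2⟩
        · exact ⟨b, a, c, hb, h1, h2⟩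
        · exact ⟨b, c, a, hb, h1, h2⟩
      by_cases hc : r c = 2
      · rcases hA a b hab ha hb with ⟨h1, h2⟩ | ⟨h1, h2⟩
        · exact ⟨c, a, b, hc, h1, h2⟩
        · exact ⟨c, b, a, hc, h1, h2⟩
      exfalso
      have e1 := hA a b hab ha hb
      have e2 := hA a c hac ha hc
      have e3 := hA b c hbc hb hc
      have e4 := hne a b hab
      have e5 := hne a c hac
      have e6 := hne b c hbc
      omega
    obtain ⟨i2, i3, iq, h2, h3, hq⟩ := key
    have hall : ∀ l, l = i2 ∨ l = i3 ∨ l = iq := by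
      intro l
      by_cases l2 : r l = 2
      · exact Or.inl (hx.inj (by rw [l2, h2]))
      by_cases l3 : l = i3
      · exact Or.inr (Or.inl l3)
      by_cases lq : l = iq
      · exact Or.inr (Or.inr lq)
      exfalso
      have e1 := hA l i3 l3 l2 (by omega)
      have e2 := hA l iq lq l2 (by omega)
      have e3 := hne l i3 l3
      omega
    rcases hq with hq | hq
    · have hr := red_235 hE e (a := x i2) (b := x i3) (c := x iq) (by rw [← h2]; exact hx.pow i2) (hx.ne i2)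
        (by rw [← h3]; exact hx.pow i3) (hx.ne i3) (by rw [← hq]; exact hx.pow iq) (hx.ne iq) (hx.comm _ _) (hx.comm _ _)
        (hx.comm _ _) (by
          intro ω
          obtain ⟨l, hl⟩ := hc ω
          rcases hall l with rfl | rfl | rfl
          · exact Or.inl hl
          · exact Or.inr (Or.inl hl)
          · exact Or.inr (Or.inr hl))
      exact no_pair B hE e (hx.prime i2) (hx.prime i3) (by omega) (hx.pow i2) (hx.ne i2) (hx.pow i3) (hx.ne i3) (hx.comm _ _) hr
    · exact no_237 hE e (a := x i2) (b := x i3) (c := x iq) (by rw [← h2]; exact hx.pow i2) (hx.ne i2)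
        (by rw [← h3]; exact hx.pow i3) (hx.ne i3) (by rw [← hq]; exact hx.pow iq) (hx.ne iq) (hx.comm _ _) (hx.comm _ _)
        (hx.comm _ _)
  -- at most two members
  obtain ⟨ω₀⟩ := (inferInstance : Nonempty Ω)
  obtain ⟨i, hi⟩ := hc ω₀
  by_cases h1 : ∃ j, j ≠ i
  · obtain ⟨j, hj⟩ := h1
    have hall : ∀ l, l = i ∨ l = j := by
      intro l
      by_contra hno
      push Not at hno
      exact h3 (Fintype.two_lt_card_iff.2 ⟨l, i, j, hno.1, hno.2, hj.symm⟩)
    have : Nonempty Ω := ⟨ω₀⟩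
    refine no_pair B hE e (hx.prime i) (hx.prime j) (hne i j hj.symm) (hx.pow i) (hx.ne i) (hx.pow j) (hx.ne j) (hx.comm _ _) ?_
    intro ω
    obtain ⟨l, hl⟩ := hc ω
    rcases hall l with rfl | rfl
    · exact Or.inl hl
    · exact Or.inr hl
  · push Not at h1
    have : Nonempty Ω := ⟨ω₀⟩
    apply hx.ne i
    refine hE.single fun ω => ?_
    obtain ⟨j, hj⟩ := hc ω
    rwa [h1 j] at hj

theorem rc_model (B : Cfsg.Agent.H940.Eng.Base) : RC Suz := by
  have := Cfsg.Agent.H257.OZ.SuzF.fin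
  exact rc_of_noCov H212.SuzFive.simple (fun h => H212.SuzFive.not_comm fun a b => h.is_comm.comm a b) (noCov B)

/-- **S3509, row `Suz`** -/
theorem rc_suz (B : Cfsg.Agent.H940.Eng.Base) {S : Type} [Group S] (h : Spor.IsoSuz S) : RC S := by
  obtain ⟨e⟩ := h
  exact (rc_model B).congr e.symm

open Cfsg.Agent.H873.RG in
theorem row (B : Cfsg.Agent.H940.Eng.Base) : RowX (fun S _ => Spor.IsoSuz S) := fun _ _ _ _ h _ => rc_suz B h

end Cfsg.Agent.H257.RG.SuzF
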